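import Cfsg.Agent.Lib.KnownB.RootCentralizer.Centralizer

/-!
Products over a list of positive roots no combination of which is a root, their images under monomial
elements, and commutation in characteristic two.
-/

set_option autoImplicit false

namespace CfsgLib.KnownB.RootCentralizer

open CfsgLib.Chevalley CfsgLib.Chevalley.Tbl CfsgLib.KnownB.Steinberg

/-- One coordinate is at least two on the list and below four on all roots. -/
structure AbSet (T : Tbl) (S : List ℕ) : Prop where
  pos : ∀ r ∈ S, T.half ≤ r ∧ r < T.n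
  sorted : (List.range' T.half T.half).filter (fun r => decide (r ∈ S)) = S
  coord : ∃ j < T.rank, (∀ r ∈ S, 2 ≤ T.co r j) ∧ ∀ x < T.n, T.co x j < 4

/-- The ordered product over a list. -/
noncomputable def prodL (T : Tbl) {F : Type*} [Field F] (L : List ℕ) (f : ℕ → F) : GL T.I F :=
  (L.map fun r => T.xU F r (f r)).prod

/-- The preimage of a set under a permutation, within the positive roots. -/
def preSet (T : Tbl) (w : Equiv.Perm (Fin T.n)) (S : List ℕ) (r : ℕ) : Prop :=
  ∃ h : r < T.n, T.half ≤ r ∧ (w ⟨r, h⟩).val ∈ S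

variable {T : Tbl} (hT : T.Valid) (hC : T.chkComm = true) {F : Type*} [Field F]
include hT

theorem commT_nil_of_image {S : List ℕ} (hS : AbSet T S) {w : Equiv.Perm (Fin T.n)} (hw : w ∈ T.WP hT)
    {r s : Fin T.n} (hr : (w r).val ∈ S) (hs : (w s).val ∈ S) : T.commT r.val s.val = [] := by
  obtain ⟨j, hj, hge, hlt⟩ := hS.coord
  refine List.eq_nil_iff_forall_not_mem.mpr fun c hc => ?_
  have h1 := commT_image hT hw hc hj
  obtain ⟨p1, p2, -⟩ := commT_co hT r.2 s.2 c hc
  have h2 := hlt _ (w ⟨c.1, commT_lt hT r.2 s.2 c hc⟩).2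
  have h3 : 2 ≤ (c.2.2.1 : ℤ) * T.co (w r).val j := by nlinarith [hge _ hr, (Int.ofNat_le.mpr p1 : (1:ℤ) ≤ c.2.2.1)]
  have h4 : 2 ≤ (c.2.2.2 : ℤ) * T.co (w s).val j := by nlinarith [hge _ hs, (Int.ofNat_le.mpr p2 : (1:ℤ) ≤ c.2.2.2)]
  omega

theorem commT_nil {S : List ℕ} (hS : AbSet T S) {r s : ℕ} (hr : r ∈ S) (hs : s ∈ S) : T.commT r s = [] :=
  commT_nil_of_image hT hS (one_mem (T.WP hT)) (r := ⟨r, (hS.pos r hr).2⟩) (s := ⟨s, (hS.pos s hs).2⟩) hr hs

theorem closed_preSet {S : List ℕ} (hS : AbSet T S) {w : Equiv.Perm (Fin T.n)} (hw : w ∈ T.WP hT) :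
    T.Closed (preSet T w S) := by
  intro r hr s hs ⟨_, _, h1⟩ ⟨_, _, h2⟩ _ _ c hc
  rw [commT_nil_of_image hT hS hw (r := ⟨r, hr⟩) (s := ⟨s, hs⟩) h1 h2] at hc
  exact absurd hc List.not_mem_nil

theorem closed_list {S : List ℕ} (hS : AbSet T S) : T.Closed (· ∈ S) := by
  intro r _ s _ hr hs _ _ c hc
  rw [commT_nil hT hS hr hs] at hc
  exact absurd hc List.not_mem_nil

include hC

/-- Elements of a closed positive root group are ordered products supported on the set. -/
theorem supp {P : ℕ → Prop} (hP : T.Closed P) : ∀ m k, k + m = T.n → T.half ≤ k →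
    ∀ g ∈ T.rootGen F (fun r => P r ∧ k ≤ r),
      ∃ f : ℕ → F, (∀ r, ¬ P r → f r = 0) ∧ g = T.uProd f k m := by
  classical
  intro m
  induction m with
  | zero =>
    intro k hkm _ g hg
    have hbot : T.rootGen F (fun r => P r ∧ k ≤ r) = ⊥ :=
      eq_bot_iff.mpr (rootGen_le fun r hr h => by omega)
    rw [hbot, Subgroup.mem_bot] at hg
    exact ⟨0, fun _ _ => rfl, by simp [uProd, hg]⟩
  | succ m ih =>
    intro k hkm hk g hg
    have hkn : k < T.n := by omega
    have upd : ∀ (f : ℕ → F) (t : F), T.uProd (Function.update f k t) k (m + 1) =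
        T.xU F k t * T.uProd f (k + 1) m := by
      intro f t
      rw [uProd_succ, Function.update_self]
      congr 1
      refine congrArg List.prod (List.map_congr_left fun r hr => ?_)
      simp only [List.mem_range'_1] at hr
      rw [Function.update_of_ne (by omega)]
    by_cases hPk : P k
    · obtain ⟨t, g', hg', rfl⟩ := mem_closed_split hT hC hP hk hkn hPk hg
      obtain ⟨f, hf, rfl⟩ := ih (k + 1) (by omega) (by omega) g' hg'
      refine ⟨Function.update f k t, fun r hr => ?_, (upd f t).symm⟩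
      rw [Function.update_of_ne (fun e => hr (by rw [e]; exact hPk))]
      exact hf r hr
    · have e : T.rootGen F (fun r => P r ∧ k ≤ r) = T.rootGen F (fun r => P r ∧ k + 1 ≤ r) := by
        refine rootGen_congr fun r _ => ⟨fun h => ⟨h.1, ?_⟩, fun h => ⟨h.1, by omega⟩⟩
        rcases Nat.lt_or_ge k r with h' | h'
        · exact h'
        · exact absurd (show P k by rw [show k = r by omega]; exact h.1) hPk
      rw [e] at hg
      obtain ⟨f, hf, rfl⟩ := ih (k + 1) (by omega) (by omega) g hg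
      refine ⟨Function.update f k 0, fun r hr => ?_, by rw [upd, xU_zero hT hkn, one_mul]⟩
      by_cases hrk : r = k
      · rw [hrk, Function.update_self]
      · rw [Function.update_of_ne hrk]; exact hf r hr

omit hC in
theorem prodL_eq_uProd {S : List ℕ} (hS : AbSet T S) (f : ℕ → F) (hf : ∀ r, r ∉ S → f r = 0) :
    prodL T S f = T.uProd f T.half T.half := by
  have key : ∀ l : List ℕ, (∀ r ∈ l, r < T.n) →
      ((l.filter fun r => decide (r ∈ S)).map fun r => T.xU F r (f r)).prod =
        (l.map fun r => T.xU F r (f r)).prod := by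
    intro l
    induction l with
    | nil => simp
    | cons a l ih =>
      intro hl
      have ih' := ih fun r hr => hl r (List.mem_cons_of_mem _ hr)
      by_cases ha : a ∈ S
      · rw [List.filter_cons_of_pos (by simpa using ha), List.map_cons, List.prod_cons, List.map_cons,
          List.prod_cons, ih']
      · rw [List.filter_cons_of_neg (by simpa using ha), List.map_cons, List.prod_cons, ih', hf a ha,
          xU_zero hT (hl a List.mem_cons_self), one_mul]
  have h2 : T.half + T.half = T.n := (Nat.two_mul _).symm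
  unfold prodL uProd
  refine Eq.trans (by rw [hS.sorted]) (key (List.range' T.half T.half) fun r hr => ?_)
  have := List.mem_range'_1.mp hr
  omega

omit hC in
theorem prodL_mem {S : List ℕ} (hS : AbSet T S) (f : ℕ → F) : prodL T S f ∈ T.rootGen F (· ∈ S) :=
  list_prod_mem fun x hx => by
    obtain ⟨r, hr, rfl⟩ := List.mem_map.mp hx
    exact xU_mem_rootGen (P := (· ∈ S)) (hS.pos r hr).2 hr _

theorem exists_prodL {S : List ℕ} (hS : AbSet T S) {g : GL T.I F} (hg : g ∈ T.rootGen F (· ∈ S)) :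
    ∃ f : ℕ → F, g = prodL T S f := by
  obtain ⟨f, hf, rfl⟩ := supp hT hC (closed_list hT hS) T.half T.half (Nat.two_mul _).symm le_rfl g
    (rootGen_mono (fun r _ h => (show r ∈ S ∧ T.half ≤ r from ⟨h, (hS.pos r h).1⟩)) hg)
  exact ⟨f, (prodL_eq_uProd hT hS f hf).symm⟩

theorem prodL_inj {S : List ℕ} (hS : AbSet T S) {f f' : ℕ → F} (h : prodL T S f = prodL T S f')
    {r : ℕ} (hr : r ∈ S) : f r = f' r := by
  classical
  have e : ∀ a : ℕ → F, prodL T S a = T.uProd (fun r => if r ∈ S then a r else 0) T.half T.half := by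
    intro a
    rw [← prodL_eq_uProd hT hS _ fun r hr => if_neg hr]
    exact congrArg List.prod (List.map_congr_left fun r hr => by simp only [if_pos hr])
  rw [e, e] at h
  have := uProd_inj hT hC T.half T.half (Nat.two_mul _).symm le_rfl _ _ h r (hS.pos r hr).1 (hS.pos r hr).2
  simpa [hr] using this

/-- A product over the list with a nonzero coordinate that lies in a closed root group has that root in the set. -/
theorem mem_of_ne_zero {S : List ℕ} (hS : AbSet T S) {P : ℕ → Prop} (hP : T.Closed P)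
    (hPpos : ∀ r, P r → T.half ≤ r) {f : ℕ → F} (hg : prodL T S f ∈ T.rootGen F P) {r : ℕ} (hr : r ∈ S)
    (hne : f r ≠ 0) : P r := by
  classical
  by_contra hPr
  obtain ⟨f', hf', e⟩ := supp hT hC hP T.half T.half (Nat.two_mul _).symm le_rfl _
    (rootGen_mono (fun r _ h => (show P r ∧ T.half ≤ r from ⟨h, hPpos r h⟩)) hg)
  rw [show prodL T S f = prodL T S fun r => if r ∈ S then f r else 0 from
    congrArg List.prod (List.map_congr_left fun r hr => by simp only [if_pos hr]),
    prodL_eq_uProd hT hS _ (fun r hr => if_neg hr)] at e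
  have := uProd_inj hT hC T.half T.half (Nat.two_mul _).symm le_rfl _ _ e r (hS.pos r hr).1 (hS.pos r hr).2
  rw [hf' r hPr, if_pos hr] at this
  exact hne this

/-- A conjugate in `U` of an element of the root group of the list comes from the roots sent into the list. -/
theorem mem_preSet {S : List ℕ} (hS : AbSet T S) {m : GL T.I F} {w : Equiv.Perm (Fin T.n)} (hw : w ∈ T.WP hT)
    (hm : T.Mono m w) {x y : GL T.I F} (hx : x ∈ T.datum.posUnipotent F) (hy : y ∈ T.rootGen F (· ∈ S))
    (h : m * x = y * m) : x ∈ T.rootGen F (preSet T w S) := by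
  obtain ⟨N, hN⟩ : ∃ N : ℕ → Prop, ∀ s, N s ↔ s ∈ S ∧ ∀ h : s < T.n, (w⁻¹ ⟨s, h⟩).val < T.half :=
    ⟨_, fun _ => Iff.rfl⟩
  obtain ⟨P, hP⟩ : ∃ P : ℕ → Prop, ∀ s, P s ↔ s ∈ S ∧ ∀ h : s < T.n, T.half ≤ (w⁻¹ ⟨s, h⟩).val :=
    ⟨_, fun _ => Iff.rfl⟩
  have hle : T.rootGen F (· ∈ S) ≤ T.rootGen F N ⊔ T.rootGen F P := by
    refine rootGen_le fun s hs hsS t => ?_
    rcases Nat.lt_or_ge (w⁻¹ ⟨s, hs⟩).val T.half with hp | hp
    · exact Subgroup.mem_sup_left (xU_mem_rootGen (P := N) hs ((hN s).mpr ⟨hsS, fun _ => hp⟩) t)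
    · exact Subgroup.mem_sup_right (xU_mem_rootGen (P := P) hs ((hP s).mpr ⟨hsS, fun _ => hp⟩) t)
  have hn : T.rootGen F N ≤ Subgroup.normalizer (T.rootGen F P : Set (GL T.I F)) := by
    refine rootGen_le fun r hr hrS t => xU_mem_normalizer hT hC hr (fun s hs hsS hne => ?_) t
    have hrS' := ((hN r).mp hrS).1
    have hsS' := ((hP s).mp hsS).1
    refine ⟨?_, fun c hc => ?_⟩
    · have h1 := (hS.pos r hrS').1
      have h2 := (hS.pos s hsS').1
      unfold Tbl.neg Tbl.n at *
      omega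
    · rw [commT_nil hT hS hrS' hsS'] at hc
      exact absurd hc List.not_mem_nil
  have hy' := hle hy
  rw [← SetLike.mem_coe, Subgroup.coe_mul_of_left_le_normalizer_right _ _ hn] at hy'
  obtain ⟨a, ha, b, hb, rfl⟩ := hy'
  have hA : m⁻¹ * a * m⁻¹⁻¹ ∈ T.rootGen F (fun r => r < T.half) :=
    conj_mem_rootGen (P := N) (Q := fun r => r < T.half) hT hm.inv (fun s hs => ((hN s.val).mp hs).2 s.2) ha
  have hpos : ∀ s : Fin T.n, P s.val → preSet T w S (w⁻¹ s).val := by
    intro s hs
    obtain ⟨h1, h2⟩ := (hP s.val).mp hs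
    refine ⟨(w⁻¹ s).2, h2 s.2, ?_⟩
    rw [Fin.eta, ← Equiv.Perm.mul_apply, mul_inv_cancel, Equiv.Perm.one_apply]
    exact h1
  have hB : m⁻¹ * b * m⁻¹⁻¹ ∈ T.rootGen F (preSet T w S) :=
    conj_mem_rootGen (P := P) (Q := preSet T w S) hT hm.inv hpos hb
  rw [inv_inv] at hA hB
  have he : x = (m⁻¹ * a * m) * (m⁻¹ * b * m) := by
    rw [show (m⁻¹ * a * m) * (m⁻¹ * b * m) = m⁻¹ * (a * b * m) by group, ← h, inv_mul_cancel_left]
  have hBU : m⁻¹ * b * m ∈ T.datum.posUnipotent F := by
    rw [posUnipotent_rootGen hT]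
    exact rootGen_mono (fun r _ ⟨_, h, _⟩ => h) hB
  have h1 : m⁻¹ * a * m ∈ (⊥ : Subgroup (GL T.I F)) := by
    rw [← borel_inf_neg (T := T) (F := F) hT]
    refine ⟨Subgroup.mem_sup_left ?_, ?_⟩
    · rw [show m⁻¹ * a * m = x * (m⁻¹ * b * m)⁻¹ by rw [he, mul_inv_cancel_right]]
      exact mul_mem hx (inv_mem hBU)
    · rw [negUnipotent_rootGen hT]; exact hA
  rw [Subgroup.mem_bot] at h1
  rwa [he, h1, one_mul]

variable [CharP F 2]

/-- Root elements with even commutator coefficients commute. -/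
theorem commute_even {r s : ℕ} (hr : r < T.n) (hs : s < T.n) (hneg : s ≠ T.neg r)
    (h : ((T.commT r s).all fun c => decide (c.2.1 % 2 = 0)) = true) (t u : F) :
    T.xU F s u * T.xU F r t = T.xU F r t * T.xU F s u := by
  by_cases hsr : s = r
  · subst hsr; rw [xU_add hT hs, xU_add hT hs, add_comm]
  rw [comm_xU hT hC hr hs hsr hneg, List.prod_eq_one, mul_one]
  intro y hy
  obtain ⟨c, hc, rfl⟩ := List.mem_map.mp hy
  have he : c.2.1 % 2 = 0 := of_decide_eq_true (List.all_eq_true.mp h c hc)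
  rw [(CharP.intCast_eq_zero_iff F 2 _).mpr (Int.dvd_of_emod_eq_zero he), zero_mul, zero_mul,
    xU_zero hT (commT_lt hT hr hs c hc)]

end CfsgLib.KnownB.RootCentralizer
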