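import Cfsg.Agent.Lib.KnownB.RootCentralizer.Centralizer

/-!
The centralizer in the form of a join of root subgroups.
-/

set_option autoImplicit false

namespace CfsgLib.KnownB.RootCentralizer

open CfsgLib.Chevalley CfsgLib.Chevalley.Tbl CfsgLib.KnownB.Steinberg

variable {T : Tbl} (hT : T.Valid) (hC : T.chkComm = true) {F : Type*} [Field F] [CharP F 2]
include hT hC

theorem centralizer_root {r : ℕ} (hL : CentralCond T [r]) {t : GL T.I F}
    (ht : (t : Matrix T.I T.I F) = T.datum.x F r 1) :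
    T.datum.group F ⊓ Subgroup.centralizer {t} = T.rootGen F (GenRoots T [r]) := by
  have hr := hL.pos r (List.mem_singleton_self r)
  rw [(eq_x_iff hT hr.2 1 t).mp ht]
  ext g
  rw [Subgroup.mem_inf, Subgroup.mem_centralizer_singleton_iff, ← centralizer_all hT hC hL]
  simp only [List.mem_singleton, forall_eq]

omit hC [CharP F 2] in
/-- `U` with the root subgroups of a list of negative roots. -/
theorem rootGen_list {L M : List ℕ}
    (hM : ∀ s < T.n, s ∈ M ↔ ∃ j ∈ orthSimple T L, s = T.neg (T.simple j)) :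
    T.rootGen F (GenRoots T L) = T.datum.posUnipotent F ⊔ T.rootGen F (· ∈ M) := by
  rw [posUnipotent_rootGen hT]
  refine le_antisymm (rootGen_le fun r hr h t => ?_) (sup_le (rootGen_mono fun _ _ h => Or.inl h)
    (rootGen_mono fun r hr h => Or.inr ((hM r hr).mp h)))
  rcases h with h | h
  · exact Subgroup.mem_sup_left (xU_mem_rootGen (P := fun r => T.half ≤ r) hr h t)
  · exact Subgroup.mem_sup_right (xU_mem_rootGen (P := (· ∈ M)) hr ((hM r hr).mpr h) t)

omit hC [CharP F 2] in
theorem sup_rootSubgroup (P : ℕ → Prop) {a : ℕ} (ha : a < T.n) :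
    T.rootGen F P ⊔ T.datum.rootSubgroup F a = T.rootGen F (fun s => P s ∨ s = a) := by
  rw [← rootGen_eq_singleton hT ha]
  refine le_antisymm (sup_le (rootGen_mono fun _ _ h => Or.inl h) (rootGen_mono fun _ _ h => Or.inr h))
    (rootGen_le fun r hr h t => ?_)
  rcases h with h | h
  · exact Subgroup.mem_sup_left (xU_mem_rootGen (P := P) hr h t)
  · exact Subgroup.mem_sup_right (xU_mem_rootGen (P := fun s => s = a) hr h t)

omit hC [CharP F 2] in
theorem closure_list_eq {M : List ℕ} (hM : ∀ s ∈ M, s < T.n) :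
    Subgroup.closure {g : GL T.datum.Idx F | ∃ s ∈ M, ∃ c : F,
      (g : Matrix T.datum.Idx T.datum.Idx F) = T.datum.x F s c} = T.rootGen F (· ∈ M) := by
  refine le_antisymm ((Subgroup.closure_le _).mpr ?_) (rootGen_le fun r hr h t =>
    Subgroup.subset_closure ⟨r, h, t, x_eq_val hT hr t ▸ rfl⟩)
  rintro g ⟨s, hs, c, hg⟩
  rw [(eq_x_iff hT (hM s hs) c g).mp hg]
  exact xU_mem_rootGen (P := (· ∈ M)) (hM s hs) hs c

end CfsgLib.KnownB.RootCentralizer
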