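import Cfsg.Agent.Lib.KnownB.RootCentralizer.Abelian
import Cfsg.Agent.Lib.KnownB.RootCentralizer.Apply
import Cfsg.Agent.Lib.Chevalley.Tables

/-!
Centralizers in `F₄`, characteristic two, of the products of commuting short and long root elements for the
root pairs (44, 47) and (39, 45).
-/

set_option autoImplicit false

namespace CfsgLib.KnownB.RootCentralizer.F4Mixed

open CfsgLib.Chevalley CfsgLib.Chevalley.Tbl CfsgLib.KnownB.Steinberg CfsgLib.KnownB.RootCentralizer

local notation "TF" => CfsgLib.Chevalley.Data.F4.tbl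

local notation "hT" => CfsgLib.Chevalley.Data.F4.valid
local notation "hC" => CfsgLib.Chevalley.Data.F4.chkComm

/-- A long root: both coordinates at the short fundamental roots are even. -/
def isLong (r : ℕ) : Bool := decide (Tbl.co TF r 0 % 2 = 0) && decide (Tbl.co TF r 1 % 2 = 0)

theorem long_closed : ((List.range (Tbl.rank TF)).all fun i => (List.range (Tbl.n TF)).all fun s =>
    isLong (Tbl.refl TF i s) == isLong s) = true := by decide +kernel

theorem isLong_image {w : Equiv.Perm (Fin (Tbl.n TF))} (hw : w ∈ Tbl.WP TF hT) (s : Fin (Tbl.n TF)) :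
    isLong (w s).val = isLong s.val := by
  obtain ⟨l, hl⟩ := exists_pw hT hw
  rw [← hl]
  clear hl
  induction l generalizing s with
  | nil => rw [pw_nil]; rfl
  | cons i l ih =>
    rw [pw_cons, Equiv.Perm.mul_apply, refP_apply]
    have h := List.all_eq_true.mp (List.all_eq_true.mp long_closed i.val (List.mem_range.mpr i.2))
      (Tbl.pw TF hT l s).val (List.mem_range.mpr (Fin.isLt _))
    rw [beq_iff_eq.mp h, ih]

/-- Images of a weighted sum of two roots with nonnegative pairings are lower. -/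
theorem pair_le {T : Tbl} (hT' : T.Valid) {a b : Fin T.n} {α β : ℤ}
    (hdom : ∀ i < T.rank, 0 ≤ α * T.ca i a.val + β * T.ca i b.val) :
    ∀ w ∈ T.WP hT', (∀ j < T.rank,
        α * T.co (w a).val j + β * T.co (w b).val j ≤ α * T.co a.val j + β * T.co b.val j) ∧
      ((∀ j < T.rank, α * T.co (w a).val j + β * T.co (w b).val j = α * T.co a.val j + β * T.co b.val j) →
        w ∈ WJ T hT' ((Finset.range T.rank).filter fun i => α * T.ca i a.val + β * T.ca i b.val = 0)) := by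
  set J := (Finset.range T.rank).filter fun i => α * T.ca i a.val + β * T.ca i b.val = 0 with hJ
  suffices h : ∀ m, ∀ w ∈ T.WP hT', T.invN w = m → ((∀ j < T.rank,
        α * T.co (w a).val j + β * T.co (w b).val j ≤ α * T.co a.val j + β * T.co b.val j) ∧
      ((∀ j < T.rank, α * T.co (w a).val j + β * T.co (w b).val j = α * T.co a.val j + β * T.co b.val j) →
        w ∈ WJ T hT' J)) from fun w hw => h _ w hw rfl
  intro m
  induction m using Nat.strong_induction_on with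
  | _ m IH =>
    intro w hw hm
    by_cases hone : ∀ i : Fin T.rank, T.half ≤ (w (T.simpF hT' i)).val
    · have := eq_one_of_pos hT' hw hone
      subst this
      exact ⟨fun j _ => le_rfl, fun _ => one_mem _⟩
    push Not at hone
    obtain ⟨i, hi⟩ := hone
    have h1 := invN_mul_refP_neg hT' hw i hi
    set v := w * T.refP hT' i with hv
    have hvW : v ∈ T.WP hT' := mul_mem hw (Subgroup.subset_closure ⟨i, rfl⟩)
    have hwv : w = v * T.refP hT' i := by rw [hv, mul_assoc, refP_mul_self, mul_one]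
    obtain ⟨IHle, IHeq⟩ := IH (T.invN v) (by omega) v hvW rfl
    have hvi : T.half ≤ (v (T.simpF hT' i)).val := by
      rw [hv, Equiv.Perm.mul_apply, refP_simpF, WP_negF hT' hw]
      exact le_negF hi
    have hone' : ∀ (r : Fin T.n), ∀ j < T.rank,
        T.co (w r).val j = T.co (v r).val j - T.ca i.val r.val * T.co (v (T.simpF hT' i)).val j := by
      intro r j hj
      rw [hwv, Equiv.Perm.mul_apply, WP_linear hT' hvW _ hj, WP_linear hT' hvW r hj]
      have hco : ∀ k : Fin T.rank, T.co (T.refP hT' i r).val k =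
          T.co r.val k - if k = i then T.ca i.val r.val else 0 := fun k => by
        rw [refP_apply, co_refl hT' i.2 r.2 k.2]
        simp only [Fin.ext_iff]
      simp only [hco, sub_mul, Finset.sum_sub_distrib, ite_mul, zero_mul, Finset.sum_ite_eq',
        Finset.mem_univ, if_true]
    have hstep : ∀ j < T.rank, α * T.co (w a).val j + β * T.co (w b).val j =
        α * T.co (v a).val j + β * T.co (v b).val j -
          (α * T.ca i.val a.val + β * T.ca i.val b.val) * T.co (v (T.simpF hT' i)).val j := by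
      intro j hj
      rw [hone' a j hj, hone' b j hj]
      ring
    have hnn : ∀ j < T.rank,
        0 ≤ (α * T.ca i.val a.val + β * T.ca i.val b.val) * T.co (v (T.simpF hT' i)).val j := fun j hj =>
      mul_nonneg (hdom i.val i.2) (co_nonneg' hT' hvi hj)
    refine ⟨fun j hj => ?_, fun heq => ?_⟩
    · have := IHle j hj
      have := hnn j hj
      rw [hstep j hj]
      linarith
    · have hv0 : v ∈ WJ T hT' J := IHeq fun j hj => by
        have h1 := IHle j hj
        have h2 := hnn j hj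
        have h3 := heq j hj
        rw [hstep j hj] at h3
        linarith
      have hio : i.val ∈ J := by
        refine Finset.mem_filter.mpr ⟨Finset.mem_range.mpr i.2, ?_⟩
        by_contra hne
        obtain ⟨j, hj⟩ : ∃ j : Fin T.rank, 0 < T.co (v (T.simpF hT' i)).val j := by
          by_contra hno
          push Not at hno
          exact absurd hvi (not_le.mpr (lt_half_of_co_nonpos hT' (Fin.isLt _) fun j hj => hno ⟨j, hj⟩))
        have h1 := IHle j j.2
        have h3 := heq j j.2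
        rw [hstep j j.2] at h3
        have h4 : 0 < (α * T.ca i.val a.val + β * T.ca i.val b.val) * T.co (v (T.simpF hT' i)).val j :=
          mul_pos (lt_of_le_of_ne (hdom i.val i.2) (Ne.symm hne)) hj
        linarith
      rw [hwv]
      exact mul_mem hv0 (refP_mem_wJ hT' hio)

theorem abSet_of_chk {S : List ℕ} (h : ((S.all fun r => decide (Tbl.half TF ≤ r) && decide (r < Tbl.n TF) &&
      decide (2 ≤ Tbl.co TF r 2)) && decide ((List.range' (Tbl.half TF) (Tbl.half TF)).filter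
      (fun r => decide (r ∈ S)) = S)) = true) : AbSet TF S := by
  simp only [Bool.and_eq_true, List.all_eq_true, decide_eq_true_eq] at h
  refine ⟨fun r hr => (h.1 r hr).1, h.2, 2, by decide +kernel, fun r hr => (h.1 r hr).2, ?_⟩
  decide +kernel

theorem abS2 : AbSet TF [44, 47] := abSet_of_chk (by decide +kernel)
theorem abS6 : AbSet TF [39, 40, 44, 45, 46, 47] := abSet_of_chk (by decide +kernel)
theorem abK : AbSet TF [40, 44, 46, 47] := abSet_of_chk (by decide +kernel)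

variable {F : Type*} [Field F] [CharP F 2]

theorem comm_list {S : List ℕ} (hS : AbSet TF S) {x y : GL (Tbl.I TF) F}
    (hx : x ∈ Tbl.rootGen TF F (· ∈ S)) (hy : y ∈ Tbl.rootGen TF F (· ∈ S)) : x * y = y * x := by
  induction hx using Subgroup.closure_induction with
  | mem a ha =>
    obtain ⟨r, hr, hrS, t, rfl⟩ := ha
    induction hy using Subgroup.closure_induction with
    | mem b hb =>
      obtain ⟨s, hs, hsS, u, rfl⟩ := hb
      refine (commute_even hT hC hr hs ?_ (by rw [commT_nil hT hS hrS hsS]; rfl) t u).symm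
      have h1 := (hS.pos r hrS).1
      have h2 := (hS.pos s hsS).1
      unfold Tbl.neg Tbl.n at *
      omega
    | one => simp
    | mul b c _ _ hb hc => rw [← mul_assoc, hb, mul_assoc, hc, mul_assoc]
    | inv b _ hb => rw [eq_inv_mul_iff_mul_eq, ← mul_assoc, ← hb, mul_inv_cancel_right]
  | one => simp
  | mul a b _ _ ha hb => rw [mul_assoc, hb, ← mul_assoc, ha, mul_assoc]
  | inv a _ ha => rw [inv_mul_eq_iff_eq_mul, ← mul_assoc, ha, mul_inv_cancel_right]

/-- `x₄₄(1) x₄₇(1)`. -/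
noncomputable def wEl : GL (Tbl.I TF) F := Tbl.xU TF F 44 1 * Tbl.xU TF F 47 1

theorem cond_w : chkCentral TF [47, 44] = true := by decide +kernel

theorem centralizer_w {g : GL (Tbl.I TF) F} :
    (g ∈ (Tbl.datum TF).group F ∧ g * wEl = wEl * g) ↔ g ∈ Tbl.rootGen TF F (GenRoots TF [47, 44]) := by
  have hL : CentralCond TF [47, 44] := centralCond_of_chk cond_w
  refine ⟨fun ⟨hg, hfix⟩ => ?_, fun hg => ?_⟩
  swap
  · obtain ⟨h1, h2⟩ := (centralizer_all hT hC hL).mpr hg
    refine ⟨h1, ?_⟩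
    rw [wEl, ← mul_assoc, h2 44 (by simp), mul_assoc, h2 47 (by simp), mul_assoc]
  refine (centralizer_all hT hC hL).mp ⟨hg, ?_⟩
  obtain ⟨b, hb, n, hn, w, hw, hm, u', hu', e⟩ := exists_canonical hT hC hg
  obtain ⟨u, hu, h, hh, rfl⟩ := (mem_borel_iff hT).mp hb
  have hu'' : u' ∈ (Tbl.datum TF).posUnipotent F := by
    rw [posUnipotent_rootGen hT]
    exact rootGen_mono (fun r _ ⟨_, h, _⟩ => h) hu'
  have hgu := pos_le_gen (F := F) hT hL hu
  have hgu' := pos_le_gen (F := F) hT hL hu''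
  have hfu : ∀ x : GL (Tbl.I TF) F, x ∈ Tbl.rootGen TF F (GenRoots TF [47, 44]) → x * wEl = wEl * x :=
    fun x hx => by
      rw [wEl, ← mul_assoc, gen_comm hT hC hL (by simp) hx, mul_assoc, gen_comm hT hC hL (by simp) hx, mul_assoc]
  obtain ⟨m, hmdef⟩ : ∃ m, m = h * n := ⟨_, rfl⟩
  have hg' : g = u * m * u' := by rw [e, hmdef]; group
  have hmfix : m * wEl = wEl * m := by
    have e' : m = u⁻¹ * g * u'⁻¹ := by rw [hg']; group
    rw [e', mul_assoc, hfu _ (inv_mem hgu'), ← mul_assoc, mul_assoc u⁻¹ g, hfix, ← mul_assoc,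
      hfu _ (inv_mem hgu)]
    group
  have hmm : Tbl.Mono TF m w := by simpa [hmdef] using (mono_diag hT hh).mul hm
  have hwP : wEl = prodL TF [44, 47] (fun _ => (1 : F)) := by simp [wEl, prodL]
  have hwU : (wEl : GL (Tbl.I TF) F) ∈ (Tbl.datum TF).posUnipotent F := by
    rw [posUnipotent_rootGen hT, hwP]
    exact rootGen_mono (fun r _ hr => (abS2.pos r hr).1) (prodL_mem hT abS2 _)
  have hpre := mem_preSet hT hC abS2 hw hmm hwU (hwP ▸ prodL_mem hT abS2 _) hmfix
  rw [hwP] at hpre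
  have himg : ∀ r ∈ [44, 47], ∀ h : r < Tbl.n TF, (w ⟨r, h⟩).val = r := by
    intro r hr hrn
    obtain ⟨_, _, hwr⟩ := mem_of_ne_zero hT hC abS2 (closed_preSet hT abS2 hw) (fun s ⟨_, h, _⟩ => h)
      hpre hr one_ne_zero
    have hl := isLong_image hw ⟨r, hrn⟩
    simp only [List.mem_cons, List.not_mem_nil, or_false] at hr hwr
    rcases hwr with h' | h' <;> rw [h'] at hl ⊢ <;> rcases hr with rfl | rfl <;>
      first | rfl | (dsimp only at hl; exact absurd hl (by decide +kernel))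
  obtain ⟨c, hc⟩ := hmm.conj ⟨44, by decide +kernel⟩
  obtain ⟨d, hd⟩ := hmm.conj ⟨47, by decide +kernel⟩
  have hc1 : ∀ t : F, m * Tbl.xU TF F 44 t = Tbl.xU TF F 44 ((c : F) * t) * m := fun t => by
    have := (hc t).1
    rwa [himg 44 (by simp)] at this
  have hd1 : ∀ t : F, m * Tbl.xU TF F 47 t = Tbl.xU TF F 47 ((d : F) * t) * m := fun t => by
    have := (hd t).1
    rwa [himg 47 (by simp)] at this
  have hcd : prodL TF [44, 47] (fun r => if r = 44 then (c : F) else d) = prodL TF [44, 47] fun _ => (1 : F) := by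
    rw [← hwP]
    refine mul_right_cancel (b := m) (Eq.trans ?_ hmfix)
    rw [show m * (wEl : GL (Tbl.I TF) F) = m * (Tbl.xU TF F 44 1 * Tbl.xU TF F 47 1) from rfl, ← mul_assoc m,
      hc1, mul_assoc, hd1, ← mul_assoc]
    simp only [prodL, List.map_cons, List.map_nil, List.prod_cons, List.prod_nil, mul_one, Nat.reduceEqDiff,
      ↓reduceIte]
  have e44 := prodL_inj hT hC abS2 hcd (r := 44) (by simp)
  have e47 := prodL_inj hT hC abS2 hcd (r := 47) (by simp)
  simp only [↓reduceIte, Nat.reduceEqDiff, if_false] at e44 e47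
  intro r hr
  have hm1 : m * Tbl.xU TF F r 1 = Tbl.xU TF F r 1 * m := by
    simp only [List.mem_cons, List.not_mem_nil, or_false] at hr
    rcases hr with rfl | rfl
    · rw [hd1, e47, mul_one]
    · rw [hc1, e44, mul_one]
  rw [hg', mul_assoc (u * m), gen_comm hT hC hL hr hgu', ← mul_assoc, mul_assoc u, hm1, ← mul_assoc,
    gen_comm hT hC hL hr hgu, mul_assoc, mul_assoc, mul_assoc]

/-- `x₃₉(1) x₄₅(1)`. -/
noncomputable def vEl : GL (Tbl.I TF) F := Tbl.xU TF F 39 1 * Tbl.xU TF F 45 1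

/-- The roots generating the centralizer of `vEl`. -/
def VRoots (r : ℕ) : Prop :=
  r ∈ [33, 14, 24, 23] ∨ (Tbl.half TF ≤ r ∧ r ∉ [27, 25, 34, 26])

/-- Elements of `vEl · ⟨X₄₀, X₄₄, X₄₆, X₄₇⟩`. -/
def Near (y : GL (Tbl.I TF) F) : Prop :=
  ∃ k ∈ Tbl.rootGen TF F (· ∈ [40, 44, 46, 47]), y = vEl * k

theorem terms_chk : ((List.range' (Tbl.half TF) (Tbl.half TF)).all fun r => [39, 40, 44, 45, 46, 47].all fun s =>
    decide (s = r) || ((Tbl.commT TF r s).all fun c => decide (c.2.1 % 2 = 0) || decide (c.1 ∈ [40, 44, 46, 47])))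
      = true := by decide +kernel

theorem fix_chk : ((List.range (Tbl.n TF)).all fun r =>
    !(decide (r ∈ [33, 14, 24, 23]) || (decide (Tbl.half TF ≤ r) && !decide (r ∈ [27, 25, 34, 26]))) ||
      [39, 45].all fun s => decide (r ≠ Tbl.neg TF s) &&
        ((Tbl.commT TF s r).all fun c => decide (c.2.1 % 2 = 0))) = true := by decide +kernel

theorem conj_root {r s : ℕ} (hr : Tbl.half TF ≤ r) (hrn : r < Tbl.n TF)
    (hs : s ∈ [39, 40, 44, 45, 46, 47]) (t u : F) :
    ∃ k ∈ Tbl.rootGen TF F (· ∈ [40, 44, 46, 47]),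
      (Tbl.xU TF F r t)⁻¹ * Tbl.xU TF F s u * Tbl.xU TF F r t = Tbl.xU TF F s u * k := by
  obtain ⟨hsp, hsn⟩ := abS6.pos s hs
  by_cases hsr : s = r
  · subst hsr
    exact ⟨1, one_mem _, by rw [xU_inv hT hsn, xU_add hT hsn, xU_add hT hsn, mul_one]; congr 1; ring⟩
  have hneg : s ≠ Tbl.neg TF r := by unfold Tbl.neg Tbl.n at *; omega
  refine ⟨((Tbl.commT TF r s).map fun c =>
    Tbl.xU TF F c.1 ((c.2.1 : F) * (-t) ^ c.2.2.1 * u ^ c.2.2.2)).prod, list_prod_mem fun y hy => ?_, ?_⟩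
  · obtain ⟨c, hc, rfl⟩ := List.mem_map.mp hy
    have hcn := commT_lt hT hrn hsn c hc
    have hchk := List.all_eq_true.mp (List.all_eq_true.mp terms_chk r
      (List.mem_range'_1.mpr ⟨hr, by unfold Tbl.n at hrn; omega⟩)) s hs
    simp only [Bool.or_eq_true, decide_eq_true_eq, List.all_eq_true] at hchk
    rcases (hchk.resolve_left hsr) c hc with h | h
    · rw [(CharP.intCast_eq_zero_iff F 2 _).mpr (Int.dvd_of_emod_eq_zero h), zero_mul, zero_mul,
        xU_zero hT hcn]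
      exact one_mem _
    · exact xU_mem_rootGen (P := (· ∈ [40, 44, 46, 47])) hcn h _
  · rw [mul_assoc, comm_xU hT hC hrn hsn hsr hneg]
    group

theorem K_le : Tbl.rootGen TF F (· ∈ [40, 44, 46, 47]) ≤ Tbl.rootGen TF F (· ∈ [39, 40, 44, 45, 46, 47]) :=
  rootGen_mono fun r _ h => by
    simp only [List.mem_cons, List.not_mem_nil, or_false] at h ⊢
    tauto

theorem conj_K {r : ℕ} (hr : Tbl.half TF ≤ r) (hrn : r < Tbl.n TF) (t : F) {k : GL (Tbl.I TF) F}
    (hk : k ∈ Tbl.rootGen TF F (· ∈ [40, 44, 46, 47])) :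
    (Tbl.xU TF F r t)⁻¹ * k * Tbl.xU TF F r t ∈ Tbl.rootGen TF F (· ∈ [40, 44, 46, 47]) := by
  induction hk using Subgroup.closure_induction with
  | mem x hx =>
    obtain ⟨s, hs, hsK, u, rfl⟩ := hx
    obtain ⟨k, hk, e⟩ := conj_root (s := s) hr hrn (by
      simp only [List.mem_cons, List.not_mem_nil, or_false] at hsK ⊢
      tauto) t u
    rw [e]
    exact mul_mem (xU_mem_rootGen (P := (· ∈ [40, 44, 46, 47])) hs hsK u) hk
  | one => simp
  | mul x y _ _ hx hy => simpa [mul_assoc] using mul_mem hx hy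
  | inv x _ hx => simpa [mul_assoc] using inv_mem hx

theorem near_gen {r : ℕ} (hr : Tbl.half TF ≤ r) (hrn : r < Tbl.n TF) (t : F) :
    Near ((Tbl.xU TF F r t)⁻¹ * vEl * Tbl.xU TF F r t) := by
  obtain ⟨k₁, hk₁, e₁⟩ := conj_root (s := 39) hr hrn (by simp) t (1 : F)
  obtain ⟨k₂, hk₂, e₂⟩ := conj_root (s := 45) hr hrn (by simp) t (1 : F)
  refine ⟨k₁ * k₂, mul_mem hk₁ hk₂, ?_⟩
  rw [show (Tbl.xU TF F r t)⁻¹ * vEl * Tbl.xU TF F r t =
      ((Tbl.xU TF F r t)⁻¹ * Tbl.xU TF F 39 1 * Tbl.xU TF F r t) *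
      ((Tbl.xU TF F r t)⁻¹ * Tbl.xU TF F 45 1 * Tbl.xU TF F r t) by rw [vEl]; group, e₁, e₂, vEl]
  have h45 : Tbl.xU TF F 45 1 ∈ Tbl.rootGen TF F (· ∈ [39, 40, 44, 45, 46, 47]) :=
    xU_mem_rootGen (P := (· ∈ [39, 40, 44, 45, 46, 47])) (by decide +kernel) (by simp) _
  rw [mul_assoc, ← mul_assoc k₁, comm_list abS6 (K_le hk₁) h45]
  group

theorem near_pos {u : GL (Tbl.I TF) F} (hu : u ∈ (Tbl.datum TF).posUnipotent F) :
    (Near (u⁻¹ * vEl * u) ∧ Near (u * vEl * u⁻¹)) ∧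
      ∀ k ∈ Tbl.rootGen TF F (· ∈ [40, 44, 46, 47]),
        u⁻¹ * k * u ∈ Tbl.rootGen TF F (· ∈ [40, 44, 46, 47]) ∧
        u * k * u⁻¹ ∈ Tbl.rootGen TF F (· ∈ [40, 44, 46, 47]) := by
  rw [posUnipotent_rootGen hT] at hu
  induction hu using Subgroup.closure_induction with
  | mem x hx =>
    obtain ⟨r, hrn, hr, t, rfl⟩ := hx
    have h1 := near_gen (F := F) hr hrn (-t)
    rw [← xU_inv hT hrn, inv_inv] at h1
    refine ⟨⟨near_gen hr hrn t, h1⟩, fun k hk => ⟨conj_K hr hrn t hk, ?_⟩⟩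
    have h2 := conj_K hr hrn (-t) hk
    rwa [← xU_inv hT hrn, inv_inv] at h2
  | one => exact ⟨⟨⟨1, one_mem _, by group⟩, ⟨1, one_mem _, by group⟩⟩, fun k hk => by simpa using hk⟩
  | mul x y _ _ hx hy =>
    obtain ⟨⟨⟨a, ha, ea⟩, ⟨a', ha', ea'⟩⟩, hkx⟩ := hx
    obtain ⟨⟨⟨b, hb, eb⟩, ⟨b', hb', eb'⟩⟩, hky⟩ := hy
    refine ⟨⟨⟨b * (y⁻¹ * a * y), mul_mem hb (hky a ha).1, ?_⟩, ⟨a' * (x * b' * x⁻¹), mul_mem ha' (hkx b' hb').2, ?_⟩⟩,
      fun k hk => ⟨?_, ?_⟩⟩
    · calc (x * y)⁻¹ * vEl * (x * y) = y⁻¹ * (x⁻¹ * vEl * x) * y := by group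
        _ = (y⁻¹ * vEl * y) * (y⁻¹ * a * y) := by rw [ea]; group
        _ = _ := by rw [eb, mul_assoc]
    · calc x * y * vEl * (x * y)⁻¹ = x * (y * vEl * y⁻¹) * x⁻¹ := by group
        _ = (x * vEl * x⁻¹) * (x * b' * x⁻¹) := by rw [eb']; group
        _ = _ := by rw [ea', mul_assoc]
    · rw [show (x * y)⁻¹ * k * (x * y) = y⁻¹ * (x⁻¹ * k * x) * y by group]
      exact (hky _ (hkx k hk).1).1
    · rw [show x * y * k * (x * y)⁻¹ = x * (y * k * y⁻¹) * x⁻¹ by group]
      exact (hkx _ (hky k hk).2).2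
  | inv x _ hx => simpa only [inv_inv, and_comm] using hx

theorem near_prodL {y : GL (Tbl.I TF) F} (hy : Near y) :
    ∃ f : ℕ → F, f 39 = 1 ∧ f 45 = 1 ∧ y = prodL TF [39, 40, 44, 45, 46, 47] f := by
  obtain ⟨k, hk, rfl⟩ := hy
  obtain ⟨f, rfl⟩ := exists_prodL hT hC abK hk
  refine ⟨fun r => if r = 39 ∨ r = 45 then 1 else f r, by simp, by simp, ?_⟩
  have hx : ∀ s ∈ [39, 40, 44, 45, 46, 47], ∀ t : F,
      Tbl.xU TF F s t ∈ Tbl.rootGen TF F (· ∈ [39, 40, 44, 45, 46, 47]) := fun s hs t =>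
    xU_mem_rootGen (P := (· ∈ [39, 40, 44, 45, 46, 47])) (abS6.pos s hs).2 hs t
  have h40 := comm_list abS6 (hx 45 (by simp) 1) (hx 40 (by simp) (f 40))
  have h44 := comm_list abS6 (hx 45 (by simp) 1) (hx 44 (by simp) (f 44))
  simp only [vEl, prodL, List.map_cons, List.map_nil, List.prod_cons, List.prod_nil, mul_one,
    Nat.reduceEqDiff, false_or, or_false, true_or, or_true, ↓reduceIte]
  rw [← mul_assoc (Tbl.xU TF F 39 1 * _), mul_assoc (Tbl.xU TF F 39 1), h40]
  simp only [mul_assoc]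
  rw [← mul_assoc (Tbl.xU TF F 45 1) (Tbl.xU TF F 44 _), h44, mul_assoc]

theorem gen_comm_v {g : GL (Tbl.I TF) F} (hg : g ∈ Tbl.rootGen TF F VRoots) : g * vEl = vEl * g := by
  induction hg using Subgroup.closure_induction with
  | mem x hx =>
    obtain ⟨r, hrn, hr, t, rfl⟩ := hx
    have hchk := List.all_eq_true.mp fix_chk r (List.mem_range.mpr hrn)
    simp only [VRoots] at hr
    simp only [Bool.or_eq_true, Bool.not_eq_true', Bool.or_eq_false_iff, Bool.and_eq_false_iff,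
      decide_eq_false_iff_not, Bool.not_eq_false', decide_eq_true_eq, List.all_eq_true,
      Bool.and_eq_true] at hchk
    have h := hchk.resolve_left (by tauto)
    have h39 := h 39 (by simp)
    have h45 := h 45 (by simp)
    rw [vEl, ← mul_assoc, commute_even hT hC (by decide +kernel) hrn h39.1 (List.all_eq_true.mpr fun c hc => decide_eq_true (h39.2 c hc)),
      mul_assoc, commute_even hT hC (by decide +kernel) hrn h45.1 (List.all_eq_true.mpr fun c hc => decide_eq_true (h45.2 c hc)), mul_assoc]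
  | one => simp
  | mul x y _ _ hx hy => rw [mul_assoc, hy, ← mul_assoc, hx, mul_assoc]
  | inv x _ hx => rw [inv_mul_eq_iff_eq_mul, ← mul_assoc, hx, mul_inv_cancel_right]

theorem chk44 : ((List.range (Tbl.n TF)).all fun r =>
    !decide (Tbl.half TF ≤ r) || (decide (r ≠ Tbl.neg TF 44) &&
      ((Tbl.commT TF 44 r).all fun c => decide (c.2.1 % 2 = 0)))) = true := by decide +kernel

theorem commute_44 {p : GL (Tbl.I TF) F} (hp : p ∈ Tbl.rootGen TF F (fun r => Tbl.half TF ≤ r)) (f : F) :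
    p * Tbl.xU TF F 44 f = Tbl.xU TF F 44 f * p := by
  induction hp using Subgroup.closure_induction with
  | mem x hx =>
    obtain ⟨r, hrn, hr, t, rfl⟩ := hx
    have hchk := List.all_eq_true.mp chk44 r (List.mem_range.mpr hrn)
    simp only [Bool.or_eq_true, Bool.not_eq_true', decide_eq_false_iff_not, Bool.and_eq_true,
      decide_eq_true_eq] at hchk
    obtain ⟨h1, h2⟩ := hchk.resolve_left (not_not.mpr hr)
    exact commute_even hT hC (by decide +kernel) hrn h1 h2 f t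
  | one => simp
  | mul x y _ _ hx hy => rw [mul_assoc, hy, ← mul_assoc, hx, mul_assoc]
  | inv x _ hx => rw [inv_mul_eq_iff_eq_mul, ← mul_assoc, hx, mul_inv_cancel_right]

theorem nU_mem_v {i : ℕ} (hi : i ∈ [0, 3]) (t : F) :
    Tbl.nU TF F (Tbl.simple TF i) t ∈ Tbl.rootGen TF F VRoots := by
  have key : ∀ i ∈ [0, 3], Tbl.simple TF i ∈ [33, 24] ∧ Tbl.neg TF (Tbl.simple TF i) ∈ [14, 23] ∧
      Tbl.simple TF i < Tbl.n TF ∧ Tbl.neg TF (Tbl.simple TF i) < Tbl.n TF := by decide +kernel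
  obtain ⟨h1, h2, h3, h4⟩ := key i hi
  have hA : VRoots (Tbl.simple TF i) := Or.inl (by
    simp only [List.mem_cons, List.not_mem_nil, or_false] at h1 ⊢; tauto)
  have hB : VRoots (Tbl.neg TF (Tbl.simple TF i)) := Or.inl (by
    simp only [List.mem_cons, List.not_mem_nil, or_false] at h2 ⊢; tauto)
  exact mul_mem (mul_mem (xU_mem_rootGen h3 hA _) (xU_mem_rootGen h4 hB _)) (xU_mem_rootGen h3 hA _)

theorem exists_mono_v {w : Equiv.Perm (Fin (Tbl.n TF))} (hw : w ∈ WJ TF hT ({0, 3} : Finset ℕ)) :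
    ∃ a ∈ Tbl.rootGen TF F VRoots, a ∈ (Tbl.datum TF).monomialSubgroup F ∧ Tbl.Mono TF a w := by
  induction hw using Subgroup.closure_induction with
  | mem x hx =>
    obtain ⟨i, hi, rfl⟩ := hx
    exact ⟨_, nU_mem_v (by simpa using hi) 1, nU_simple_mem_N hT i, mono_nU_simple hT i⟩
  | one => exact ⟨1, one_mem _, one_mem _, Mono.one⟩
  | mul x y _ _ hx hy =>
    obtain ⟨a, a1, a2, a3⟩ := hx
    obtain ⟨b, b1, b2, b3⟩ := hy
    exact ⟨a * b, mul_mem a1 b1, mul_mem a2 b2, a3.mul b3⟩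
  | inv x _ hx =>
    obtain ⟨a, a1, a2, a3⟩ := hx
    exact ⟨a⁻¹, inv_mem a1, inv_mem a2, a3.inv⟩

/-- The only pair allowed by the weighted inequality. -/
theorem pair_chk : ([39, 40, 44].all fun a => [45, 46, 47].all fun b => decide (a = 39 ∧ b = 45) ||
    (List.range (Tbl.rank TF)).any fun j =>
      decide (3 * Tbl.co TF 39 j + 2 * Tbl.co TF 45 j < 3 * Tbl.co TF a j + 2 * Tbl.co TF b j)) = true := by
  decide +kernel

theorem weyl_fix {w : Equiv.Perm (Fin (Tbl.n TF))} (hw : w ∈ Tbl.WP TF hT)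
    (h39 : (w ⟨39, by decide +kernel⟩).val ∈ [39, 40, 44, 45, 46, 47])
    (h45 : (w ⟨45, by decide +kernel⟩).val ∈ [39, 40, 44, 45, 46, 47]) :
    w ∈ WJ TF hT ({0, 3} : Finset ℕ) ∧ (w ⟨39, by decide +kernel⟩).val = 39 ∧
      (w ⟨45, by decide +kernel⟩).val = 45 := by
  have short : ∀ x ∈ [39, 40, 44, 45, 46, 47], isLong x = isLong 39 → x ∈ [39, 40, 44] := by decide +kernel
  have long : ∀ x ∈ [39, 40, 44, 45, 46, 47], isLong x = isLong 45 → x ∈ [45, 46, 47] := by decide +kernel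
  have ha := short _ h39 (isLong_image hw _)
  have hb := long _ h45 (isLong_image hw _)
  obtain ⟨hle, heq⟩ := pair_le hT (T := TF) (a := ⟨39, by decide +kernel⟩) (b := ⟨45, by decide +kernel⟩)
    (α := 3) (β := 2) (by decide +kernel) w hw
  have h := List.all_eq_true.mp (List.all_eq_true.mp pair_chk _ ha) _ hb
  simp only [Bool.or_eq_true, decide_eq_true_eq, List.any_eq_true, List.mem_range] at h
  rcases h with ⟨e1, e2⟩ | ⟨j, hj, hlt⟩
  · refine ⟨?_, e1, e2⟩
    have hJ : ((Finset.range (Tbl.rank TF)).filter fun i =>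
        (3 : ℤ) * Tbl.ca TF i 39 + 2 * Tbl.ca TF i 45 = 0) = ({0, 3} : Finset ℕ) := by decide +kernel
    rw [← hJ]
    exact heq fun j _ => by rw [e1, e2]
  · exact absurd (hle j hj) (not_le.mpr hlt)

theorem neg_chk : ((List.range' (Tbl.half TF) (Tbl.half TF)).all fun r => decide (r ∈ [33, 24]) ||
    [1, 2].any fun j => decide (Tbl.co TF r j ≠ 0)) = true := by decide +kernel

theorem negSet_le_v {w : Equiv.Perm (Fin (Tbl.n TF))} (hw : w ∈ WJ TF hT ({0, 3} : Finset ℕ))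
    {u : GL (Tbl.I TF) F} (hu : u ∈ Tbl.rootGen TF F (Tbl.negSet TF w)) : u ∈ Tbl.rootGen TF F VRoots := by
  refine rootGen_mono (fun r hr ⟨_, hp, hn⟩ => ?_) hu
  left
  by_cases hin : InS TF ({0, 3} : Finset ℕ) ⟨r, hr⟩
  · have hchk := List.all_eq_true.mp neg_chk r (List.mem_range'_1.mpr ⟨hp, by unfold Tbl.n at hr; omega⟩)
    simp only [Bool.or_eq_true, decide_eq_true_eq, List.any_eq_true, List.mem_cons, List.not_mem_nil,
      or_false] at hchk
    rcases hchk with h | ⟨j, hj, hne⟩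
    · rcases h with rfl | rfl <;> simp
    · exact absurd (hin j (by rcases hj with rfl | rfl <;> decide +kernel)
        (by rcases hj with rfl | rfl <;> decide)) hne
  · exact absurd (wJ_pos hT hw hp hin).1 (not_le.mpr hn)

theorem conj_up {s r c : ℕ} (hs : s < Tbl.n TF) (hr : r < Tbl.n TF) (hc : c < Tbl.n TF) (hrs : r ≠ s)
    (hneg : r ≠ Tbl.neg TF s) (h : Tbl.commT TF s r = [(c, -1, 1, 1)])
    (hcr : ((Tbl.commT TF c r).all fun d => decide (d.2.1 % 2 = 0)) = true) (hneg' : r ≠ Tbl.neg TF c) (t : F) :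
    Tbl.xU TF F r t * Tbl.xU TF F s 1 = Tbl.xU TF F s 1 * Tbl.xU TF F c t * Tbl.xU TF F r t := by
  rw [comm_xU hT hC hs hr hrs hneg, h]
  simp only [List.map_cons, List.map_nil, List.prod_cons, List.prod_nil, mul_one]
  rw [mul_assoc (Tbl.xU TF F s 1), mul_assoc (Tbl.xU TF F s 1)]
  congr 1
  rw [show ((-1 : ℤ) : F) * (-1) ^ 1 * t ^ 1 = t by push_cast; ring]
  exact commute_even hT hC hc hr hneg' hcr t t

theorem skip_step {k : ℕ} (hk : Tbl.half TF ≤ k) (hk' : k + 1 < Tbl.n TF) (hkE : k ∉ [27, 25, 34, 26])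
    {g : GL (Tbl.I TF) F} (hg : g ∈ Tbl.rootGen TF F (fun r => k ≤ r)) :
    ∃ p ∈ Tbl.rootGen TF F (fun r => Tbl.half TF ≤ r ∧ r ∉ [27, 25, 34, 26]),
      ∃ g' ∈ Tbl.rootGen TF F (fun r => k + 1 ≤ r), g = p * g' := by
  obtain ⟨t, g', hg', rfl⟩ := (mem_ge_iff hT hC hk (by omega)).mp hg
  exact ⟨_, xU_mem_rootGen (P := fun r => Tbl.half TF ≤ r ∧ r ∉ [27, 25, 34, 26]) (by omega) ⟨hk, hkE⟩ t, g', hg', rfl⟩

theorem ge35_le : Tbl.rootGen TF F (fun r => 35 ≤ r) ≤ Tbl.rootGen TF F VRoots :=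
  rootGen_mono fun r hr h => Or.inr ⟨le_trans (by decide +kernel) h, by
    simp only [List.mem_cons, List.not_mem_nil, or_false]; omega⟩

theorem pos_v {u : GL (Tbl.I TF) F} (hu : u ∈ (Tbl.datum TF).posUnipotent F) (hv : u * vEl = vEl * u) :
    u ∈ Tbl.rootGen TF F VRoots := by
  have hn : ∀ {k : ℕ}, k ≤ 47 → k < Tbl.n TF := fun h => lt_of_le_of_lt h (by decide +kernel)
  have hh : ∀ {k : ℕ}, 24 ≤ k → Tbl.half TF ≤ k := fun h => le_trans (by decide +kernel) h
  rw [posUnipotent_rootGen hT] at hu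
  obtain ⟨p₀, hp₀, g₁, hg₁, rfl⟩ := skip_step (F := F) (k := Tbl.half TF) le_rfl (by decide +kernel)
    (by decide +kernel) hu
  have h25 : g₁ ∈ Tbl.rootGen TF F (fun r => 25 ≤ r) :=
    rootGen_mono (fun r _ h => le_trans (by decide +kernel) h) hg₁
  obtain ⟨c, g₂, hg₂, rfl⟩ := (mem_ge_iff hT hC (hh (by norm_num)) (hn (by norm_num))).mp h25
  obtain ⟨d, g₃, hg₃, rfl⟩ := (mem_ge_iff hT hC (hh (by norm_num)) (hn (by norm_num))).mp hg₂
  obtain ⟨e, g₄, hg₄, rfl⟩ := (mem_ge_iff hT hC (hh (by norm_num)) (hn (by norm_num))).mp hg₃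
  obtain ⟨p₁, hp₁, g₅, hg₅, rfl⟩ := skip_step (k := 28) (hh le_add_self) (hn (by norm_num)) (by decide) hg₄
  obtain ⟨p₂, hp₂, g₆, hg₆, rfl⟩ := skip_step (k := 29) (hh (by norm_num)) (hn (by norm_num)) (by decide) hg₅
  obtain ⟨p₃, hp₃, g₇, hg₇, rfl⟩ := skip_step (k := 30) (hh (by norm_num)) (hn (by norm_num)) (by decide) hg₆
  obtain ⟨p₄, hp₄, g₈, hg₈, rfl⟩ := skip_step (k := 31) (hh (by norm_num)) (hn (by norm_num)) (by decide) hg₇
  obtain ⟨p₅, hp₅, g₉, hg₉, rfl⟩ := skip_step (k := 32) (hh (by norm_num)) (hn (by norm_num)) (by decide) hg₈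
  obtain ⟨p₆, hp₆, g₀, hg₀, rfl⟩ := skip_step (k := 33) (hh (by norm_num)) (hn (by norm_num)) (by decide) hg₉
  obtain ⟨f, q, hq, rfl⟩ := (mem_ge_iff hT hC (hh (by norm_num)) (hn (by norm_num))).mp hg₀
  have hqv := ge35_le hq
  have hPV : Tbl.rootGen TF F (fun r => Tbl.half TF ≤ r ∧ r ∉ [27, 25, 34, 26]) ≤ Tbl.rootGen TF F VRoots :=
    rootGen_mono fun r _ h => Or.inr h
  obtain ⟨p, hp⟩ : ∃ p, p = p₁ * p₂ * p₃ * p₄ * p₅ * p₆ := ⟨_, rfl⟩
  have hpp : p ∈ Tbl.rootGen TF F (fun r => Tbl.half TF ≤ r ∧ r ∉ [27, 25, 34, 26]) :=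
    hp ▸ mul_mem (mul_mem (mul_mem (mul_mem (mul_mem hp₁ hp₂) hp₃) hp₄) hp₅) hp₆
  have hpm : p ∈ Tbl.rootGen TF F VRoots := hPV hpp
  obtain ⟨a, ha⟩ : ∃ a, a = Tbl.xU TF F 25 c * Tbl.xU TF F 26 d * Tbl.xU TF F 27 e * p * Tbl.xU TF F 34 f :=
    ⟨_, rfl⟩
  have hu_eq : p₀ * (Tbl.xU TF F 25 c * (Tbl.xU TF F 26 d * (Tbl.xU TF F 27 e *
      (p₁ * (p₂ * (p₃ * (p₄ * (p₅ * (p₆ * (Tbl.xU TF F 34 f * q)))))))))) = p₀ * a * q := by
    simp only [ha, hp, mul_assoc]
  rw [hu_eq] at hv ⊢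
  have hav : a * vEl = vEl * a := by
    have h1 := gen_comm_v (hPV hp₀)
    have h2 := gen_comm_v hqv
    refine mul_left_cancel (a := p₀) (mul_right_cancel (b := q) ?_)
    calc p₀ * (a * vEl) * q = p₀ * a * (vEl * q) := by group
      _ = p₀ * a * (q * vEl) := by rw [h2]
      _ = (p₀ * a * q) * vEl := by group
      _ = vEl * (p₀ * a * q) := hv
      _ = (vEl * p₀) * a * q := by group
      _ = (p₀ * vEl) * a * q := by rw [h1]
      _ = _ := by group
  have hx : ∀ s ∈ [39, 40, 44, 45, 46, 47], ∀ t : F,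
      Tbl.xU TF F s t ∈ Tbl.rootGen TF F (· ∈ [39, 40, 44, 45, 46, 47]) := fun s hs t =>
    xU_mem_rootGen (P := (· ∈ [39, 40, 44, 45, 46, 47])) (abS6.pos s hs).2 hs t
  have com : ∀ (r s : ℕ), s < Tbl.n TF → r < Tbl.n TF → r ≠ Tbl.neg TF s →
      ((Tbl.commT TF s r).all fun d => decide (d.2.1 % 2 = 0)) = true → ∀ t u : F,
      Tbl.xU TF F r t * Tbl.xU TF F s u = Tbl.xU TF F s u * Tbl.xU TF F r t :=
    fun r s hs hr hne h t u => commute_even hT hC hs hr hne h u t
  -- the moves of `x₃₉(1) x₄₅(1)`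
  have m34 : Tbl.xU TF F 34 f * vEl = vEl * Tbl.xU TF F 44 f * Tbl.xU TF F 34 f := by
    rw [vEl, ← mul_assoc, conj_up (s := 39) (c := 44) (hn (by norm_num)) (hn (by norm_num)) (hn (by norm_num))
      (by decide) (by decide +kernel) (by decide +kernel) (by decide +kernel) (by decide +kernel) f, mul_assoc,
      com 34 45 (hn (by norm_num)) (hn (by norm_num)) (by decide +kernel) (by decide +kernel) f 1,
      ← mul_assoc, mul_assoc (Tbl.xU TF F 39 1), comm_list abS6 (hx 44 (by simp) f) (hx 45 (by simp) 1)]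
    group
  have m27 : Tbl.xU TF F 27 e * vEl = vEl * Tbl.xU TF F 40 e * Tbl.xU TF F 27 e := by
    rw [vEl, ← mul_assoc, conj_up (s := 39) (c := 40) (hn (by norm_num)) (hn (by norm_num)) (hn (by norm_num))
      (by decide) (by decide +kernel) (by decide +kernel) (by decide +kernel) (by decide +kernel) e, mul_assoc,
      com 27 45 (hn (by norm_num)) (hn (by norm_num)) (by decide +kernel) (by decide +kernel) e 1,
      ← mul_assoc, mul_assoc (Tbl.xU TF F 39 1), comm_list abS6 (hx 40 (by simp) e) (hx 45 (by simp) 1)]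
    group
  have m26 : Tbl.xU TF F 26 d * vEl = vEl * Tbl.xU TF F 47 d * Tbl.xU TF F 26 d := by
    rw [vEl, ← mul_assoc, com 26 39 (hn (by norm_num)) (hn (by norm_num)) (by decide +kernel) (by decide +kernel) d 1,
      mul_assoc, conj_up (s := 45) (c := 47) (hn (by norm_num)) (hn (by norm_num)) (hn (by norm_num))
      (by decide) (by decide +kernel) (by decide +kernel) (by decide +kernel) (by decide +kernel) d]
    group
  have m25 : Tbl.xU TF F 25 c * vEl = vEl * Tbl.xU TF F 46 c * Tbl.xU TF F 25 c := by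
    rw [vEl, ← mul_assoc, com 25 39 (hn (by norm_num)) (hn (by norm_num)) (by decide +kernel) (by decide +kernel) c 1,
      mul_assoc, conj_up (s := 45) (c := 46) (hn (by norm_num)) (hn (by norm_num)) (hn (by norm_num))
      (by decide) (by decide +kernel) (by decide +kernel) (by decide +kernel) (by decide +kernel) c]
    group
  have c44 : p * Tbl.xU TF F 44 f = Tbl.xU TF F 44 f * p := commute_44 (rootGen_mono (fun r _ h => h.1) hpp) f
  have tot : a * vEl = (vEl * Tbl.xU TF F 46 c * Tbl.xU TF F 47 d * Tbl.xU TF F 40 e * Tbl.xU TF F 44 f) * a := by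
    have a40 := com 25 40 (hn (by norm_num)) (hn (by norm_num)) (by decide +kernel) (by decide +kernel) c e
    have b40 := com 26 40 (hn (by norm_num)) (hn (by norm_num)) (by decide +kernel) (by decide +kernel) d e
    have a47 := com 25 47 (hn (by norm_num)) (hn (by norm_num)) (by decide +kernel) (by decide +kernel) c d
    have a44 := com 25 44 (hn (by norm_num)) (hn (by norm_num)) (by decide +kernel) (by decide +kernel) c f
    have b44 := com 26 44 (hn (by norm_num)) (hn (by norm_num)) (by decide +kernel) (by decide +kernel) d f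
    have c44' := com 27 44 (hn (by norm_num)) (hn (by norm_num)) (by decide +kernel) (by decide +kernel) e f
    have hpv := gen_comm_v hpm
    simp only [ha, mul_assoc] at *
    rw [m34, ← mul_assoc p, hpv, mul_assoc vEl p, ← mul_assoc p, c44, mul_assoc _ p,
      ← mul_assoc (Tbl.xU TF F 27 e) vEl, m27, mul_assoc, mul_assoc,
      ← mul_assoc (Tbl.xU TF F 27 e) (Tbl.xU TF F 44 f), c44', mul_assoc,
      ← mul_assoc (Tbl.xU TF F 26 d) vEl, m26, mul_assoc, mul_assoc,
      ← mul_assoc (Tbl.xU TF F 26 d) (Tbl.xU TF F 40 e), b40, mul_assoc,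
      ← mul_assoc (Tbl.xU TF F 26 d) (Tbl.xU TF F 44 f), b44, mul_assoc,
      ← mul_assoc (Tbl.xU TF F 25 c) vEl, m25, mul_assoc, mul_assoc,
      ← mul_assoc (Tbl.xU TF F 25 c) (Tbl.xU TF F 47 d), a47, mul_assoc,
      ← mul_assoc (Tbl.xU TF F 25 c) (Tbl.xU TF F 40 e), a40, mul_assoc,
      ← mul_assoc (Tbl.xU TF F 25 c) (Tbl.xU TF F 44 f), a44, mul_assoc]
  have hk1 : vEl * (Tbl.xU TF F 46 c * Tbl.xU TF F 47 d * Tbl.xU TF F 40 e * Tbl.xU TF F 44 f) = vEl * 1 := by
    rw [mul_one]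
    refine mul_right_cancel (b := a) ?_
    rw [← hav, tot]
    simp only [mul_assoc]
  have hk2 := mul_left_cancel hk1
  have hord : prodL TF [40, 44, 46, 47] (fun r => if r = 40 then e else if r = 44 then f else if r = 46 then c else d) =
      prodL TF [40, 44, 46, 47] fun _ => (0 : F) := by
    have hzero : prodL TF [40, 44, 46, 47] (fun _ => (0 : F)) = 1 := List.prod_eq_one fun x hx' => by
      obtain ⟨r, hr, rfl⟩ := List.mem_map.mp hx'
      exact xU_zero hT (abK.pos r hr).2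
    rw [hzero, ← hk2]
    simp only [prodL, List.map_cons, List.map_nil, List.prod_cons, List.prod_nil, mul_one,
      Nat.reduceEqDiff, ↓reduceIte]
    rw [← mul_assoc (Tbl.xU TF F 40 e), comm_list abS6 (mul_mem (hx 40 (by simp) e) (hx 44 (by simp) f))
      (mul_mem (hx 46 (by simp) c) (hx 47 (by simp) d))]
    simp only [mul_assoc]
  have ec := prodL_inj hT hC abK hord (r := 46) (by simp)
  have ed := prodL_inj hT hC abK hord (r := 47) (by simp)
  have ee := prodL_inj hT hC abK hord (r := 40) (by simp)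
  have ef := prodL_inj hT hC abK hord (r := 44) (by simp)
  simp only [Nat.reduceEqDiff, ↓reduceIte] at ec ed ee ef
  refine mul_mem (mul_mem (hPV hp₀) ?_) hqv
  rw [ha, ec, ed, ee, ef, xU_zero hT (hn (by norm_num)), xU_zero hT (hn (by norm_num)),
    xU_zero hT (hn (by norm_num)), xU_zero hT (hn (by norm_num))]
  simpa using hpm

theorem diag_v {h : GL (Tbl.I TF) F} {f : Fin (Tbl.rank TF) → Fˣ}
    (hf : h = Tbl.dU TF fun s => ∏ i, f i ^ Tbl.ca TF i s)
    (h39 : ∏ i, f i ^ Tbl.ca TF i 39 = 1) (h45 : ∏ i, f i ^ Tbl.ca TF i 45 = 1) :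
    h ∈ Tbl.rootGen TF F VRoots := by
  have hone : ∀ i : Fin (Tbl.rank TF), i.val = 1 ∨ i.val = 2 → f i = 1 := by
    have c39 : (List.range (Tbl.rank TF)).map (fun i => Tbl.ca TF i 39) = [0, -1, 1, 0] := by decide +kernel
    have c45 : (List.range (Tbl.rank TF)).map (fun i => Tbl.ca TF i 45) = [0, 2, -1, 0] := by decide +kernel
    intro i hi
    rw [show Tbl.rank TF = 4 from by decide +kernel] at c39 c45
    simp [List.range_succ] at c39 c45
    obtain ⟨a0, a1, a2, a3⟩ := c39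
    obtain ⟨b0, b1, b2, b3⟩ := c45
    let f' : Fin 4 → Fˣ := f
    have h39' : ∏ i : Fin 4, f' i ^ Tbl.ca TF i 39 = 1 := h39
    have h45' : ∏ i : Fin 4, f' i ^ Tbl.ca TF i 45 = 1 := h45
    clear h39 h45
    rename' h39' => h39, h45' => h45
    rw [Fin.prod_univ_four] at h39 h45
    simp only [Fin.val_zero, Fin.val_one, Fin.val_two, show ((3 : Fin 4) : ℕ) = 3 from rfl,
      a0, a1, a2, a3, b0, b1, b2, b3, zpow_zero, one_mul, mul_one, zpow_neg, zpow_one] at h39 h45
    have e12 : f' 2 = f' 1 := by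
      have := inv_mul_eq_one.mp h39
      exact this.symm
    rw [e12, zpow_two, mul_inv_cancel_right] at h45
    show f' i = 1
    rcases hi with hi | hi
    · rw [show (i : Fin 4) = (1 : Fin 4) from Fin.ext hi, h45]
    · rw [show (i : Fin 4) = (2 : Fin 4) from Fin.ext hi, e12, h45]
  subst hf
  have key : ∀ S : Finset (Fin (Tbl.rank TF)), (∀ i ∈ S, i.val ∈ [0, 3]) →
      (Tbl.dU TF fun s => ∏ i ∈ S, f i ^ Tbl.ca TF i s : GL (Tbl.I TF) F) ∈ Tbl.rootGen TF F VRoots := by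
    intro S hS
    induction S using Finset.induction with
    | empty =>
      rw [show (Tbl.dU TF fun s => ∏ i ∈ (∅ : Finset (Fin (Tbl.rank TF))), f i ^ Tbl.ca TF i s :
        GL (Tbl.I TF) F) = 1 by rw [← dU_one]; exact dU_congr fun s _ => by simp]
      exact one_mem _
    | @insert a S ha ih =>
      have e : (Tbl.dU TF fun s => ∏ i ∈ insert a S, f i ^ Tbl.ca TF i s : GL (Tbl.I TF) F) =
          Tbl.dU TF (Tbl.hCh TF (Tbl.simple TF a) (f a)) * Tbl.dU TF fun s => ∏ i ∈ S, f i ^ Tbl.ca TF i s := by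
        rw [dU_mul]
        exact dU_congr fun s _ => by simp [Finset.prod_insert ha, hCh, pair_simple hT a.2]
      rw [e, ← hU_eq hT (simple_lt hT a.2) (f a)]
      exact mul_mem (mul_mem (nU_mem_v (hS a (Finset.mem_insert_self _ _)) _)
        (nU_mem_v (hS a (Finset.mem_insert_self _ _)) _))
        (ih fun i hi => hS i (Finset.mem_insert_of_mem hi))
  have e : (Tbl.dU TF fun s => ∏ i, f i ^ Tbl.ca TF i s : GL (Tbl.I TF) F) =
      Tbl.dU TF fun s => ∏ i ∈ Finset.univ.filter (fun i : Fin (Tbl.rank TF) => i.val ∈ [0, 3]),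
        f i ^ Tbl.ca TF i s := dU_congr fun s _ => by
    refine (Finset.prod_subset (Finset.subset_univ _) fun i _ hi => ?_).symm
    have hlt : i.val < 4 := lt_of_lt_of_eq i.2 (by decide +kernel)
    rw [hone i ?_, one_zpow]
    simp only [Finset.mem_filter, Finset.mem_univ, true_and, List.mem_cons, List.not_mem_nil, or_false] at hi
    omega
  rw [e]
  exact key _ fun i hi => (Finset.mem_filter.mp hi).2

theorem centralizer_v {g : GL (Tbl.I TF) F} :
    (g ∈ (Tbl.datum TF).group F ∧ g * vEl = vEl * g) ↔ g ∈ Tbl.rootGen TF F VRoots := by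
  refine ⟨fun ⟨hg, hfix⟩ => ?_, fun hg => ⟨rootGen_le (fun r hr _ t => xU_mem_group hT hr t) hg, gen_comm_v hg⟩⟩
  obtain ⟨b, hb, n, hn, w, hw, hm, u', hu', e⟩ := exists_canonical hT hC hg
  obtain ⟨u, hu, h, hh, rfl⟩ := (mem_borel_iff hT).mp hb
  have hu'' : u' ∈ (Tbl.datum TF).posUnipotent F := by
    rw [posUnipotent_rootGen hT]
    exact rootGen_mono (fun r _ ⟨_, h, _⟩ => h) hu'
  obtain ⟨m, hmdef⟩ : ∃ m, m = h * n := ⟨_, rfl⟩
  have hg' : g = u * m * u' := by rw [e, hmdef]; group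
  have hmm : Tbl.Mono TF m w := by simpa [hmdef] using (mono_diag hT hh).mul hm
  have hconj : m * (u' * vEl * u'⁻¹) = (u⁻¹ * vEl * u) * m := by
    calc m * (u' * vEl * u'⁻¹) = u⁻¹ * (u * m * u' * vEl) * u'⁻¹ := by group
      _ = u⁻¹ * (g * vEl) * u'⁻¹ := by rw [hg']
      _ = u⁻¹ * (vEl * g) * u'⁻¹ := by rw [hfix]
      _ = _ := by rw [hg']; group
  obtain ⟨f₁, hf39, hf45, e1⟩ := near_prodL (near_pos hu'').1.2
  obtain ⟨f₂, hk39, hk45, e2⟩ := near_prodL (near_pos hu).1.1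
  have hxU : prodL TF [39, 40, 44, 45, 46, 47] f₁ ∈ (Tbl.datum TF).posUnipotent F := by
    rw [posUnipotent_rootGen hT]
    exact rootGen_mono (fun r _ hr => (abS6.pos r hr).1) (prodL_mem hT abS6 _)
  have hpre := mem_preSet hT hC abS6 hw hmm hxU (prodL_mem hT abS6 f₂) (by rw [← e1, ← e2]; exact hconj)
  obtain ⟨_, _, i39⟩ := mem_of_ne_zero hT hC abS6 (closed_preSet hT abS6 hw) (fun s ⟨_, h, _⟩ => h) hpre
    (r := 39) (by simp) (by rw [hf39]; exact one_ne_zero)
  obtain ⟨_, _, i45⟩ := mem_of_ne_zero hT hC abS6 (closed_preSet hT abS6 hw) (fun s ⟨_, h, _⟩ => h) hpre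
    (r := 45) (by simp) (by rw [hf45]; exact one_ne_zero)
  obtain ⟨hwJ, -, -⟩ := weyl_fix hw i39 i45
  obtain ⟨a, ha, haN, haM⟩ := exists_mono_v (F := F) hwJ
  have hd : m * a⁻¹ ∈ (Tbl.datum TF).diagonalSubgroup F := by
    refine mem_diag_of_mono_one hT (mul_mem (by rw [hmdef]; exact mul_mem (diag_le_N hT hh) hn) (inv_mem haN)) ?_
    have := hmm.mul haM.inv
    rwa [mul_inv_cancel] at this
  have hu'v := negSet_le_v hwJ hu'
  obtain ⟨δ, hδ⟩ : ∃ δ, δ = m * a⁻¹ := ⟨_, rfl⟩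
  rw [← hδ] at hd
  have hav : (a * u') * vEl = vEl * (a * u') := gen_comm_v (mul_mem ha hu'v)
  have hud : (u * δ) * vEl = vEl * (u * δ) := by
    refine mul_right_cancel (b := a * u') ?_
    calc u * δ * vEl * (a * u') = u * δ * ((a * u') * vEl) := by rw [mul_assoc, ← hav]
      _ = g * vEl := by rw [hg', hδ]; group
      _ = vEl * g := hfix
      _ = _ := by rw [hg', hδ]; group
  obtain ⟨f, hf⟩ := (mem_diag_iff hT).mp hd
  have hconj' : (u⁻¹ * vEl * u) * δ = Tbl.xU TF F 39 ((∏ i, f i ^ Tbl.ca TF i 39 : Fˣ) : F) *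
      Tbl.xU TF F 45 ((∏ i, f i ^ Tbl.ca TF i 45 : Fˣ) : F) * δ := by
    rw [show u⁻¹ * vEl * u * δ = u⁻¹ * (vEl * (u * δ)) by group, ← hud,
      show u⁻¹ * (u * δ * vEl) = δ * vEl by group, hf, vEl, ← mul_assoc,
      dU_conj_X hT (isChar_prod hT f) (by decide +kernel), mul_assoc,
      dU_conj_X hT (isChar_prod hT f) (by decide +kernel), mul_one, mul_one, mul_assoc]
  have hval := mul_right_cancel hconj'
  rw [e2] at hval
  let χ : ℕ → F := fun r => if r = 39 then ((∏ i, f i ^ Tbl.ca TF i 39 : Fˣ) : F)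
    else if r = 45 then ((∏ i, f i ^ Tbl.ca TF i 45 : Fˣ) : F) else 0
  have hχ : prodL TF [39, 40, 44, 45, 46, 47] f₂ = prodL TF [39, 40, 44, 45, 46, 47] χ := by
    rw [hval]
    simp [prodL, χ, xU_zero hT (show 40 < Tbl.n TF by decide +kernel), xU_zero hT (show 44 < Tbl.n TF by decide +kernel),
      xU_zero hT (show 46 < Tbl.n TF by decide +kernel), xU_zero hT (show 47 < Tbl.n TF by decide +kernel)]
  have e39 := prodL_inj hT hC abS6 hχ (r := 39) (by simp)
  have e45 := prodL_inj hT hC abS6 hχ (r := 45) (by simp)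
  simp only [χ, Nat.reduceEqDiff, ↓reduceIte, hk39, hk45] at e39 e45
  have hδgen : δ ∈ Tbl.rootGen TF F VRoots :=
    diag_v hf (Units.ext (by rw [Units.val_one]; exact e39.symm)) (Units.ext (by rw [Units.val_one]; exact e45.symm))
  have huv : u * vEl = vEl * u := by
    refine mul_right_cancel (b := δ) ?_
    rw [mul_assoc, ← gen_comm_v hδgen, ← mul_assoc, hud, mul_assoc]
  have : g = u * δ * (a * u') := by rw [hg', hδ]; group
  rw [this]
  exact mul_mem (mul_mem (pos_v hu huv) hδgen) (mul_mem ha hu'v)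

end CfsgLib.KnownB.RootCentralizer.F4Mixed
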