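import Cfsg.Agent.Lib.KnownB.RootCentralizer.Stabilizer
import Cfsg.Agent.Lib.Chevalley.Bruhat

/-!
Centralizers in characteristic two of dominant root elements that are central in `U`.
-/

set_option autoImplicit false

namespace CfsgLib.KnownB.RootCentralizer

open CfsgLib.Chevalley CfsgLib.Chevalley.Tbl CfsgLib.KnownB.Steinberg

/-- Positive roots and the negatives of the fundamental roots of `orthSimple`. -/
def GenRoots (T : Tbl) (L : List ℕ) (s : ℕ) : Prop :=
  T.half ≤ s ∨ ∃ j ∈ orthSimple T L, s = T.neg (T.simple j)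

/-- The conditions on the tables. -/
structure CentralCond (T : Tbl) (L : List ℕ) : Prop where
  pos : ∀ r ∈ L, T.half ≤ r ∧ r < T.n
  dom : ∀ r ∈ L, Dominant T r
  comm : ∀ r ∈ L, ∀ s < T.n, GenRoots T L s →
    s = r ∨ (s ≠ T.neg r ∧ ∀ c ∈ T.commT r s, (2 : ℤ) ∣ c.2.1)
  torus : ∀ r ∈ L, ∃ i₀ < T.rank, T.ca i₀ r = 1 ∧ ∀ i < T.rank, i ≠ i₀ → T.ca i r = 0

/-- The Boolean form of the conditions. -/
def chkCentral (T : Tbl) (L : List ℕ) : Bool :=
  L.all fun r => decide (T.half ≤ r ∧ r < T.n) &&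
    ((List.range T.rank).all fun i => decide (0 ≤ T.ca i r)) &&
    ((List.range' T.half T.half ++ ((List.range T.rank).filter fun i =>
      L.all fun t => decide (T.ca i t = 0)).map fun j => T.neg (T.simple j)).all fun s =>
        decide (s = r) || (decide (s ≠ T.neg r) &&
          ((T.commT r s).all fun c => decide (c.2.1 % 2 = 0)))) &&
    ((List.range T.rank).any fun i₀ => decide (T.ca i₀ r = 1) &&
      ((List.range T.rank).all fun i => decide (i = i₀) || decide (T.ca i r = 0)))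

theorem centralCond_of_chk {T : Tbl} {L : List ℕ} (h : chkCentral T L = true) : CentralCond T L := by
  simp only [chkCentral, List.all_eq_true, Bool.and_eq_true, Bool.or_eq_true, decide_eq_true_eq,
    List.mem_range, List.any_eq_true] at h
  refine ⟨fun r hr => (h r hr).1.1.1, fun r hr i hi => (h r hr).1.1.2 i hi, fun r hr s hs hgen => ?_,
    fun r hr => ?_⟩
  · have hmem : s ∈ List.range' T.half T.half ++ ((List.range T.rank).filter fun i =>
        L.all fun t => decide (T.ca i t = 0)).map fun j => T.neg (T.simple j) := by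
      rw [List.mem_append]
      rcases hgen with hp | ⟨j, hj, rfl⟩
      · left
        rw [List.mem_range'_1]
        exact ⟨hp, by unfold Tbl.n at hs; omega⟩
      · right
        obtain ⟨hj1, hj2⟩ := Finset.mem_filter.mp hj
        refine List.mem_map.mpr ⟨j, List.mem_filter.mpr ⟨List.mem_range.mpr (Finset.mem_range.mp hj1), ?_⟩, rfl⟩
        simp only [List.all_eq_true, decide_eq_true_eq]
        exact hj2
    rcases (h r hr).1.2 s hmem with h1 | ⟨h1, h2⟩
    · exact Or.inl h1
    · exact Or.inr ⟨h1, fun c hc => Int.dvd_of_emod_eq_zero (h2 c hc)⟩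
  · obtain ⟨i₀, hi₀, h1, h2⟩ := (h r hr).2
    exact ⟨i₀, hi₀, h1, fun i hi hne => (h2 i hi).resolve_left hne⟩

variable {T : Tbl} (hT : T.Valid) (hC : T.chkComm = true) {F : Type*} [Field F] [CharP F 2]
  {L : List ℕ} (hL : CentralCond T L)
include hT hC hL

theorem gen_comm {r : ℕ} (hr : r ∈ L) {g : GL T.I F} (hg : g ∈ T.rootGen F (GenRoots T L)) :
    g * T.xU F r 1 = T.xU F r 1 * g := by
  have hrn := (hL.pos r hr).2
  induction hg using Subgroup.closure_induction with
  | mem x hx =>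
    obtain ⟨s, hs, hgen, u, rfl⟩ := hx
    rcases hL.comm r hr s hs hgen with rfl | ⟨hne, heven⟩
    · rw [xU_add hT hs, xU_add hT hs, add_comm]
    · by_cases hsr : s = r
      · subst hsr; rw [xU_add hT hs, xU_add hT hs, add_comm]
      rw [comm_xU hT hC hrn hs hsr hne, List.prod_eq_one, mul_one]
      intro y hy
      obtain ⟨c, hc, rfl⟩ := List.mem_map.mp hy
      rw [(CharP.intCast_eq_zero_iff F 2 _).mpr (heven c hc), zero_mul, zero_mul,
        xU_zero hT (commT_lt hT hrn hs c hc)]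
  | one => simp
  | mul x y _ _ hx hy => rw [mul_assoc, hy, ← mul_assoc, hx, mul_assoc]
  | inv x _ hx => rw [inv_mul_eq_iff_eq_mul, ← mul_assoc, hx, mul_inv_cancel_right]

omit hC [CharP F 2] in
theorem gen_le_group : T.rootGen F (GenRoots T L) ≤ T.datum.group F :=
  rootGen_le fun _ hr _ t => xU_mem_group hT hr t

omit hC [CharP F 2] in
theorem nU_mem_gen {j : ℕ} (hj : j ∈ orthSimple T L) (t : F) :
    T.nU F (T.simple j) t ∈ T.rootGen F (GenRoots T L) := by
  have hjr := Finset.mem_range.mp (Finset.mem_filter.mp hj).1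
  have hp := simple_lt hT hjr
  exact mul_mem (mul_mem
    (xU_mem_rootGen (P := GenRoots T L) hp (Or.inl (isPos_iff.mp (simple_pos hT hjr))) _)
    (xU_mem_rootGen (P := GenRoots T L) (neg_lt' hp) (Or.inr ⟨j, hj, rfl⟩) _))
    (xU_mem_rootGen (P := GenRoots T L) hp (Or.inl (isPos_iff.mp (simple_pos hT hjr))) _)

omit hC [CharP F 2] in
theorem diag_mem_gen {h : GL T.I F} (hh : h ∈ T.datum.diagonalSubgroup F)
    (hfix : ∀ r ∈ L, h * T.xU F r 1 = T.xU F r 1 * h) : h ∈ T.rootGen F (GenRoots T L) := by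
  obtain ⟨f, rfl⟩ := (mem_diag_iff hT).mp hh
  have hone : ∀ i : Fin T.rank, i.val ∉ orthSimple T L → f i = 1 := by
    intro i hi
    simp only [orthSimple, Finset.mem_filter, Finset.mem_range, i.2, true_and, not_forall] at hi
    obtain ⟨r, hr, hne⟩ := hi
    obtain ⟨i₀, hi₀, h1, h0⟩ := hL.torus r hr
    have hii : i.val = i₀ := by by_contra hne'; exact hne (h0 i i.2 hne')
    have hrn := (hL.pos r hr).2
    have e := hfix r hr
    rw [dU_conj_X hT (isChar_prod hT f) hrn, mul_left_inj] at e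
    have e1 := xU_inj hT hrn e
    rw [mul_one, Units.val_eq_one, Finset.prod_eq_single i] at e1
    · rwa [hii, h1, zpow_one] at e1
    · intro b _ hb
      rw [h0 b b.2 fun e' => hb (Fin.ext (e'.trans hii.symm)), zpow_zero]
    · simp
  have key : ∀ S : Finset (Fin T.rank), (∀ i ∈ S, i.val ∈ orthSimple T L) →
      (T.dU fun s => ∏ i ∈ S, f i ^ T.ca i s : GL T.I F) ∈ T.rootGen F (GenRoots T L) := by
    intro S hS
    induction S using Finset.induction with
    | empty =>
      rw [show (T.dU fun s => ∏ i ∈ (∅ : Finset (Fin T.rank)), f i ^ T.ca i s : GL T.I F) = 1 by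
        rw [← dU_one]; exact dU_congr fun s _ => by simp]
      exact one_mem _
    | @insert a S ha ih =>
      have e : (T.dU fun s => ∏ i ∈ insert a S, f i ^ T.ca i s : GL T.I F) =
          T.dU (T.hCh (T.simple a) (f a)) * T.dU fun s => ∏ i ∈ S, f i ^ T.ca i s := by
        rw [dU_mul]
        exact dU_congr fun s _ => by simp [Finset.prod_insert ha, hCh, pair_simple hT a.2]
      rw [e, ← hU_eq hT (simple_lt hT a.2) (f a)]
      exact mul_mem (mul_mem (nU_mem_gen hT hL (hS a (Finset.mem_insert_self _ _)) _)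
        (nU_mem_gen hT hL (hS a (Finset.mem_insert_self _ _)) _))
        (ih fun i hi => hS i (Finset.mem_insert_of_mem hi))
  have e : (T.dU fun s => ∏ i, f i ^ T.ca i s : GL T.I F) =
      T.dU fun s => ∏ i ∈ Finset.univ.filter (fun i : Fin T.rank => i.val ∈ orthSimple T L),
        f i ^ T.ca i s := dU_congr fun s _ => by
    refine (Finset.prod_subset (Finset.subset_univ _) fun i _ hi => ?_).symm
    rw [hone i fun h => hi (Finset.mem_filter.mpr ⟨Finset.mem_univ _, h⟩), one_zpow]
  rw [e]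
  exact key _ fun i hi => (Finset.mem_filter.mp hi).2

omit hC [CharP F 2] in
theorem exists_mono_gen {w : Equiv.Perm (Fin T.n)} (hw : w ∈ WJ T hT (orthSimple T L)) :
    ∃ m ∈ T.rootGen F (GenRoots T L), m ∈ T.datum.monomialSubgroup F ∧ T.Mono m w := by
  induction hw using Subgroup.closure_induction with
  | mem x hx =>
    obtain ⟨i, hi, rfl⟩ := hx
    exact ⟨_, nU_mem_gen hT hL hi 1, nU_simple_mem_N hT i, mono_nU_simple hT i⟩
  | one => exact ⟨1, one_mem _, one_mem _, Mono.one⟩
  | mul x y _ _ hx hy =>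
    obtain ⟨a, a1, a2, a3⟩ := hx
    obtain ⟨b, b1, b2, b3⟩ := hy
    exact ⟨a * b, mul_mem a1 b1, mul_mem a2 b2, a3.mul b3⟩
  | inv x _ hx =>
    obtain ⟨a, a1, a2, a3⟩ := hx
    exact ⟨a⁻¹, inv_mem a1, inv_mem a2, a3.inv⟩

omit hC [CharP F 2] in
/-- A monomial element commuting with the root elements lies in the generated subgroup. -/
theorem monomial_mem_gen {m : GL T.I F} (hm : m ∈ T.datum.monomialSubgroup F)
    {w : Equiv.Perm (Fin T.n)} (hw : w ∈ WJ T hT (orthSimple T L)) (hmw : T.Mono m w)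
    (hfix : ∀ r ∈ L, m * T.xU F r 1 = T.xU F r 1 * m)
    (hgen : ∀ r ∈ L, ∀ g ∈ T.rootGen F (GenRoots T L), g * T.xU F r 1 = T.xU F r 1 * g) :
    m ∈ T.rootGen F (GenRoots T L) := by
  obtain ⟨a, ha, haN, haM⟩ := exists_mono_gen (F := F) hT hL hw
  have hd : m * a⁻¹ ∈ T.datum.diagonalSubgroup F := by
    refine mem_diag_of_mono_one hT (mul_mem hm (inv_mem haN)) ?_
    have := hmw.mul haM.inv
    rwa [mul_inv_cancel] at this
  have hd' := diag_mem_gen hT hL hd fun r hr => by
    rw [mul_assoc, hgen r hr a⁻¹ (inv_mem ha), ← mul_assoc, hfix r hr, mul_assoc]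
  have := mul_mem hd' ha
  rwa [inv_mul_cancel_right] at this

omit hC [CharP F 2] in
theorem pos_le_gen : T.datum.posUnipotent F ≤ T.rootGen F (GenRoots T L) := by
  rw [posUnipotent_rootGen hT]
  exact rootGen_mono fun _ _ h => Or.inl h

/-- The centralizer of the root elements of the list. -/
theorem centralizer_all {g : GL T.I F} :
    (g ∈ T.datum.group F ∧ ∀ r ∈ L, g * T.xU F r 1 = T.xU F r 1 * g) ↔
      g ∈ T.rootGen F (GenRoots T L) := by
  refine ⟨fun ⟨hg, hfix⟩ => ?_, fun hg => ⟨gen_le_group hT hL hg, fun r hr => gen_comm hT hC hL hr hg⟩⟩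
  obtain ⟨b, hb, n, hn, w, hw, hm, u', hu', e⟩ := exists_canonical hT hC hg
  obtain ⟨u, hu, h, hh, rfl⟩ := (mem_borel_iff hT).mp hb
  have hu'' : u' ∈ T.datum.posUnipotent F := by
    rw [posUnipotent_rootGen hT]
    exact rootGen_mono (fun r _ ⟨_, h, _⟩ => h) hu'
  have hgu := pos_le_gen (F := F) hT hL hu
  have hgu' := pos_le_gen (F := F) hT hL hu''
  have hmfix : ∀ r ∈ L, (h * n) * T.xU F r 1 = T.xU F r 1 * (h * n) := by
    intro r hr
    have e' : h * n = u⁻¹ * g * u'⁻¹ := by rw [e]; group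
    rw [e', mul_assoc, gen_comm hT hC hL hr (inv_mem hgu'), ← mul_assoc, mul_assoc u⁻¹ g,
      hfix r hr, ← mul_assoc, gen_comm hT hC hL hr (inv_mem hgu)]
    group
  have hmono : T.Mono (h * n) w := by simpa using (mono_diag hT hh).mul hm
  have hst : w ∈ WJ T hT (orthSimple T L) := by
    refine (dominant_le hT (fun r hr => ⟨(hL.pos r hr).2, hL.dom r hr⟩) w hw).2 fun r hr j hj => ?_
    obtain ⟨c, hc⟩ := hmono.conj ⟨r, (hL.pos r hr).2⟩
    have e1 : T.xU F (w ⟨r, (hL.pos r hr).2⟩).val ((c : F) * 1) = T.xU F r 1 :=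
      mul_right_cancel ((hc 1).1.symm.trans (hmfix r hr))
    rw [mul_one] at e1
    have hp : T.half ≤ (w ⟨r, (hL.pos r hr).2⟩).val := by
      by_contra hlt
      have hB : T.xU F r 1 ∈ T.datum.borelSubgroup F := pos_le_borel hT (hL.pos r hr).2 (hL.pos r hr).1 _
      have hV : T.xU F r 1 ∈ T.datum.negUnipotent F := by
        rw [← e1, negUnipotent_rootGen hT]
        exact xU_mem_rootGen (P := fun r => r < T.half) (Fin.isLt _) (not_le.mp hlt) _
      have h0 : T.xU F r 1 ∈ (⊥ : Subgroup (GL T.I F)) :=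
        borel_inf_neg (T := T) (F := F) hT ▸ ⟨hB, hV⟩
      rw [Subgroup.mem_bot, ← xU_zero hT (hL.pos r hr).2] at h0
      exact one_ne_zero (xU_inj hT (hL.pos r hr).2 h0)
    rw [(eq_of_xU_eq hT hC hp (Fin.isLt _) (hL.pos r hr).1 (hL.pos r hr).2 c.ne_zero one_ne_zero e1).1]
  have hmem := monomial_mem_gen hT hL (mul_mem (diag_le_N hT hh) hn) hst hmono hmfix
    fun r hr g hg => gen_comm hT hC hL hr hg
  have : g = u * (h * n) * u' := by rw [e]; group
  rw [this]
  exact mul_mem (mul_mem hgu hmem) hgu'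

end CfsgLib.KnownB.RootCentralizer
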