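import Cfsg.Agent.Lib.KnownB.Steinberg.Alt

/-!
The subgroup generated by a highest root subgroup and one of its conjugates in characteristic two.
-/

set_option autoImplicit false

namespace CfsgLib.KnownB.RootCentralizer

open CfsgLib.Chevalley CfsgLib.Chevalley.Tbl CfsgLib.KnownB.Steinberg

/-- The table conditions: `X_r` is central in `U`; the listed roots are closed under the fundamental
reflections; a negative one other than `-r` spans with `r` a unipotent subgroup. -/
def chkPairs2 (T : Tbl) (r : ℕ) (M : ℕ → Bool) : Bool :=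
  decide (T.half ≤ r ∧ r < T.n) && M r &&
    ((List.range T.rank).all fun i => (List.range T.n).all fun s => !(M s) || M (T.refl i s)) &&
    ((List.range' T.half T.half).all fun s => decide (s = r) || (T.sum? r s).isNone) &&
    ((List.range T.half).all fun s => !(M s) || decide (s = T.neg r) || match T.commT s r with
      | [] => true
      | [c] => decide (c.1 ≠ r ∧ c.1 ≠ T.neg r ∧ c.1 ≠ s ∧ c.1 ≠ T.neg s) &&
          (T.sum? r c.1).isNone && (T.sum? c.1 r).isNone && (T.sum? s c.1).isNone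
      | _ => false)

variable {T : Tbl} (hT : T.Valid) (hC : T.chkComm = true) {F : Type*} [Field F] [CharP F 2]
include hT hC

theorem isPGroup_rootSubgroup {r : ℕ} (hr : r < T.n) : IsPGroup 2 ↥(T.datum.rootSubgroup F r) := by
  rintro ⟨g, hg⟩
  obtain ⟨t, rfl⟩ := (mem_rootSubgroup_iff hT hr).mp hg
  refine ⟨1, Subtype.ext ?_⟩
  rw [pow_one, Subgroup.coe_pow, pow_two, xU_add hT hr, CharTwo.add_self_eq_zero, xU_zero hT hr]
  rfl

theorem commute_of_none {a b : ℕ} (ha : a < T.n) (hb : b < T.n) (hne : b ≠ a)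
    (hneg : b ≠ T.neg a) (h : T.sum? a b = none) (t u : F) :
    T.xU F b u * T.xU F a t = T.xU F a t * T.xU F b u := by
  rw [comm_xU hT hC ha hb hne hneg, commT_eq_nil hT ha hb h, List.map_nil, List.prod_nil, mul_one]

/-- The two root subgroups generate a 2-group. -/
theorem isPGroup_pair {r s : ℕ} {M : ℕ → Bool} (hchk : chkPairs2 T r M = true) (hs : M s = true)
    (hsn : s < T.n) (hneg : ¬ T.half ≤ s) (hne : s ≠ T.neg r) :
    IsPGroup 2 ↥(T.datum.rootSubgroup F r ⊔ T.datum.rootSubgroup F s) := by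
  simp only [chkPairs2, Bool.and_eq_true, List.all_eq_true, Bool.or_eq_true, decide_eq_true_eq] at hchk
  obtain ⟨⟨⟨⟨⟨hrp, hrn⟩, -⟩, -⟩, -⟩, hM⟩ := hchk
  have hsr : r ≠ s := fun e => hneg (e ▸ hrp)
  have hrs' : r ≠ T.neg s := fun e => hne (by rw [e, neg_neg' hsn])
  have h := (hM s (List.mem_range.mpr (not_le.mp hneg))).resolve_left
    (fun h => h.elim (by simp [hs]) hne)
  split at h
  · next e =>
    have hcom : ∀ (t u : F), T.xU F r u * T.xU F s t = T.xU F s t * T.xU F r u := fun t u => by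
      rw [comm_xU hT hC hsn hrn hsr hrs', e, List.map_nil, List.prod_nil, mul_one]
    refine IsPGroup.to_sup_of_normal_right' (isPGroup_rootSubgroup hT hC hrn)
      (isPGroup_rootSubgroup hT hC hsn) fun g hg => ?_
    obtain ⟨u, rfl⟩ := (mem_rootSubgroup_iff hT hrn).mp hg
    rw [Subgroup.mem_normalizer_iff]
    intro x
    constructor
    · intro hx
      obtain ⟨t, rfl⟩ := (mem_rootSubgroup_iff hT hsn).mp hx
      rw [hcom, mul_inv_cancel_right]
      exact hx
    · intro hx
      obtain ⟨t, ht⟩ := (mem_rootSubgroup_iff hT hsn).mp hx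
      have : x = T.xU F s t := by
        have h2 : T.xU F r u * x = T.xU F r u * T.xU F s t := by
          rw [hcom, ← ht, inv_mul_cancel_right]
        exact mul_left_cancel h2
      rw [this]
      exact (mem_rootSubgroup_iff hT hsn).mpr ⟨t, rfl⟩
  · next c e =>
    simp only [Bool.and_eq_true, decide_eq_true_eq, Option.isNone_iff_eq_none] at h
    obtain ⟨⟨⟨⟨hcr, hcnr, hcs, hcns⟩, h1⟩, h2⟩, h3⟩ := h
    have hcn : c.1 < T.n := commT_lt hT hsn hrn c (by rw [e]; exact List.mem_singleton_self c)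
    let P : ℕ → Prop := fun x => x = r ∨ x = c.1
    have hle : T.datum.rootSubgroup F r ⊔ T.datum.rootSubgroup F s ≤
        T.datum.rootSubgroup F s ⊔ T.rootGen F P := by
      rw [← rootGen_eq_singleton hT hrn]
      exact sup_le (le_sup_of_le_right (rootGen_mono fun x _ hx => Or.inl hx)) le_sup_left
    refine IsPGroup.to_le ?_ hle
    have hP : T.rootGen F P = T.datum.rootSubgroup F r ⊔ T.datum.rootSubgroup F c.1 := by
      rw [← rootGen_eq_singleton hT hrn, ← rootGen_eq_singleton hT hcn]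
      refine le_antisymm (rootGen_le fun x hx h t => ?_)
        (sup_le (rootGen_mono fun x _ h => Or.inl h) (rootGen_mono fun x _ h => Or.inr h))
      rcases h with h | h
      · exact Subgroup.mem_sup_left (xU_mem_rootGen (P := (· = r)) hx h t)
      · exact Subgroup.mem_sup_right (xU_mem_rootGen (P := (· = c.1)) hx h t)
    have hPg : IsPGroup 2 ↥(T.rootGen F P) := by
      rw [hP]
      refine IsPGroup.to_sup_of_normal_right' (isPGroup_rootSubgroup hT hC hrn)
        (isPGroup_rootSubgroup hT hC hcn) fun g hg => ?_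
      obtain ⟨u, rfl⟩ := (mem_rootSubgroup_iff hT hrn).mp hg
      rw [← rootGen_eq_singleton hT hcn]
      refine xU_mem_normalizer hT hC hrn (fun x hx hxc hxr => ⟨?_, fun d hd => ?_⟩) u
      · subst hxc; exact hcnr
      · subst hxc; rw [commT_eq_nil hT hrn hx h1] at hd; exact absurd hd List.not_mem_nil
    refine IsPGroup.to_sup_of_normal_right' (isPGroup_rootSubgroup hT hC hsn) hPg fun g hg => ?_
    obtain ⟨u, rfl⟩ := (mem_rootSubgroup_iff hT hsn).mp hg
    refine xU_mem_normalizer hT hC hsn (fun x hx hxP hxs => ?_) u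
    rcases hxP with rfl | rfl
    · refine ⟨hrs', fun d hd => ?_⟩
      rw [e, List.mem_singleton] at hd
      exact Or.inr (by rw [hd])
    · refine ⟨hcns, fun d hd => ?_⟩
      rw [commT_eq_nil hT hsn hx h3] at hd
      exact absurd hd List.not_mem_nil
  · exact absurd h (by simp)

/-- The dichotomy. -/
theorem root_pairs [Fintype F] {r : ℕ} {M : ℕ → Bool} (hchk : chkPairs2 T r M = true) {g : GL T.I F}
    (hg : g ∈ T.datum.group F) :
    IsPGroup 2 ↥(T.datum.rootSubgroup F r ⊔
        (T.datum.rootSubgroup F r).map (MulAut.conj g).toMonoidHom) ∨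
      ∃ h ∈ T.datum.group F, (T.datum.rootSubgroup F r ⊔
          (T.datum.rootSubgroup F r).map (MulAut.conj g).toMonoidHom).map (MulAut.conj h).toMonoidHom =
        T.datum.rootSubgroup F r ⊔ T.datum.rootSubgroup F (T.neg r) := by
  have hchk' := hchk
  simp only [chkPairs2, Bool.and_eq_true, List.all_eq_true, Bool.or_eq_true, decide_eq_true_eq,
    List.mem_range, List.mem_range'_1, Option.isNone_iff_eq_none] at hchk'
  obtain ⟨⟨⟨⟨⟨hrp, hrn⟩, hrM⟩, hclosed⟩, hcent⟩, -⟩ := hchk'
  obtain ⟨b, hb, n, hn, w, hw, hm, u', hu', e⟩ := exists_canonical hT hC hg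
  obtain ⟨u, hu, h, hh, rfl⟩ := (mem_borel_iff hT).mp hb
  have hUX : ∀ v ∈ T.datum.posUnipotent F, ∀ t, v * T.xU F r t = T.xU F r t * v := by
    intro v hv t
    rw [posUnipotent_rootGen hT] at hv
    induction hv using Subgroup.closure_induction with
    | mem x hx =>
      obtain ⟨s, hs, hsp, a, rfl⟩ := hx
      by_cases hsr : s = r
      · subst hsr; rw [xU_add hT hs, xU_add hT hs, add_comm]
      · refine commute_of_none hT hC hrn hs hsr ?_ ((hcent s ⟨hsp, ?_⟩).resolve_left hsr) t a
        · unfold Tbl.neg Tbl.n at *; omega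
        · unfold Tbl.n at hs; omega
    | one => simp
    | mul x y _ _ hx hy => rw [mul_assoc, hy, ← mul_assoc, hx, mul_assoc]
    | inv x _ hx => rw [inv_mul_eq_iff_eq_mul, ← mul_assoc, hx, mul_inv_cancel_right]
  have hu'' : u' ∈ T.datum.posUnipotent F := by
    rw [posUnipotent_rootGen hT]
    exact rootGen_mono (fun r _ ⟨_, h, _⟩ => h) hu'
  have hwM : ∀ x : Fin T.n, M x.val = true → M (w x).val = true := by
    obtain ⟨l, hl⟩ := exists_pw hT hw
    rw [← hl]
    clear hl
    induction l with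
    | nil => exact fun x hx => by rw [pw_nil]; exact hx
    | cons i l ih =>
      intro x hx
      rw [pw_cons, Equiv.Perm.mul_apply, refP_apply]
      exact (hclosed i i.2 _ (Fin.isLt _)).resolve_left (by simp [ih x hx])
  have hsM : M (w ⟨r, hrn⟩).val = true := hwM ⟨r, hrn⟩ hrM
  set s := (w ⟨r, hrn⟩).val with hs
  have hsn : s < T.n := (w ⟨r, hrn⟩).2
  have hconjU : ∀ v ∈ T.datum.posUnipotent F,
      (T.datum.rootSubgroup F r).map (MulAut.conj v).toMonoidHom = T.datum.rootSubgroup F r := by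
    intro v hv
    ext x
    constructor
    · rintro ⟨y, hy, rfl⟩
      obtain ⟨t, rfl⟩ := (mem_rootSubgroup_iff hT hrn).mp hy
      show v * T.xU F r t * v⁻¹ ∈ _
      rw [hUX v hv, mul_inv_cancel_right]
      exact (mem_rootSubgroup_iff hT hrn).mpr ⟨t, rfl⟩
    · intro hx
      obtain ⟨t, rfl⟩ := (mem_rootSubgroup_iff hT hrn).mp hx
      exact ⟨_, (mem_rootSubgroup_iff hT hrn).mpr ⟨t, rfl⟩,
        show v * T.xU F r t * v⁻¹ = _ by rw [hUX v hv, mul_inv_cancel_right]⟩
  have hmm : T.Mono (h * n) w := by simpa using (mono_diag hT hh).mul hm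
  have hconjN : (T.datum.rootSubgroup F r).map (MulAut.conj (h * n)).toMonoidHom =
      T.datum.rootSubgroup F s := by
    obtain ⟨c, hc⟩ := hmm.conj ⟨r, hrn⟩
    ext x
    constructor
    · rintro ⟨y, hy, rfl⟩
      obtain ⟨t, rfl⟩ := (mem_rootSubgroup_iff hT hrn).mp hy
      show (h * n) * T.xU F r t * (h * n)⁻¹ ∈ _
      rw [show (h * n) * T.xU F r t = _ from (hc t).1, mul_inv_cancel_right]
      exact (mem_rootSubgroup_iff hT hsn).mpr ⟨_, rfl⟩
    · intro hx
      obtain ⟨t, rfl⟩ := (mem_rootSubgroup_iff hT hsn).mp hx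
      refine ⟨_, (mem_rootSubgroup_iff hT hrn).mpr ⟨((c⁻¹ : Fˣ) : F) * t, rfl⟩, ?_⟩
      show (h * n) * T.xU F r _ * (h * n)⁻¹ = _
      rw [show (h * n) * T.xU F r (((c⁻¹ : Fˣ) : F) * t) = _ from (hc _).1, mul_inv_cancel_right,
        ← mul_assoc, ← Units.val_mul, mul_inv_cancel, Units.val_one, one_mul]
  have hJ : T.datum.rootSubgroup F r ⊔ (T.datum.rootSubgroup F r).map (MulAut.conj g).toMonoidHom =
      (T.datum.rootSubgroup F r ⊔ T.datum.rootSubgroup F s).map (MulAut.conj u).toMonoidHom := by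
    have eg : (MulAut.conj g).toMonoidHom = (MulAut.conj u).toMonoidHom.comp
        ((MulAut.conj (h * n)).toMonoidHom.comp (MulAut.conj u').toMonoidHom) := by
      ext x : 1
      show g * x * g⁻¹ = u * ((h * n) * (u' * x * u'⁻¹) * (h * n)⁻¹) * u⁻¹
      rw [e]; group
    rw [Subgroup.map_sup, hconjU u hu, eg, ← Subgroup.map_map, ← Subgroup.map_map, hconjU u' hu'', hconjN]
  rw [hJ]
  by_cases hspos : T.half ≤ s
  · left
    refine IsPGroup.map ?_ _
    have hle : T.datum.rootSubgroup F r ⊔ T.datum.rootSubgroup F s ≤ T.datum.posUnipotent F := by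
      rw [posUnipotent_rootGen hT, ← rootGen_eq_singleton hT hrn, ← rootGen_eq_singleton hT hsn]
      exact sup_le (rootGen_mono fun x _ hx => hx ▸ hrp) (rootGen_mono fun x _ hx => hx ▸ hspos)
    have hUG : T.datum.posUnipotent F ≤ T.datum.group F :=
      le_sup_left.trans (borel_le_group hT)
    exact ((isPGroup_pos (F := F) hT hC 2).of_equiv (Subgroup.subgroupOfEquivOfLe hUG)).to_le hle
  · by_cases hsneg : s = T.neg r
    · right
      refine ⟨u⁻¹, inv_mem (borel_le_group hT (Subgroup.mem_sup_left hu)), ?_⟩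
      rw [hsneg, Subgroup.map_map]
      convert Subgroup.map_id _ using 2
      ext x : 1
      simp [mul_assoc]
    · exact Or.inl ((isPGroup_pair hT hC hchk hsM hsn hspos hsneg).map _)

end CfsgLib.KnownB.RootCentralizer
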