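import Cfsg.Agent.Lib.KnownB.Steinberg.Cells

/-!
The stabilizer of dominant roots in the reflection group, and products of positive root elements.
-/

set_option autoImplicit false

namespace CfsgLib.KnownB.RootCentralizer

open CfsgLib.Chevalley CfsgLib.Chevalley.Tbl CfsgLib.KnownB.Steinberg

/-- A root with nonnegative pairing with every fundamental root. -/
def Dominant (T : Tbl) (r : ℕ) : Prop := ∀ i < T.rank, 0 ≤ T.ca i r

/-- The fundamental roots orthogonal to all the roots of a list. -/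
def orthSimple (T : Tbl) (L : List ℕ) : Finset ℕ :=
  (Finset.range T.rank).filter fun i => ∀ r ∈ L, T.ca i r = 0

variable {T : Tbl} (hT : T.Valid)
include hT

/-- Images of dominant roots are lower, with equality only for the stabilizer. -/
theorem dominant_le {L : List ℕ} (hL : ∀ r ∈ L, r < T.n ∧ Dominant T r) :
    ∀ w ∈ T.WP hT, (∀ r (h : r ∈ L), ∀ j < T.rank,
        T.co (w ⟨r, (hL r h).1⟩).val j ≤ T.co r j) ∧
      ((∀ r (h : r ∈ L), ∀ j < T.rank, T.co (w ⟨r, (hL r h).1⟩).val j = T.co r j) →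
        w ∈ WJ T hT (orthSimple T L)) := by
  suffices h : ∀ m, ∀ w ∈ T.WP hT, T.invN w = m →
      ((∀ r (h : r ∈ L), ∀ j < T.rank, T.co (w ⟨r, (hL r h).1⟩).val j ≤ T.co r j) ∧
      ((∀ r (h : r ∈ L), ∀ j < T.rank, T.co (w ⟨r, (hL r h).1⟩).val j = T.co r j) →
        w ∈ WJ T hT (orthSimple T L))) from fun w hw => h _ w hw rfl
  intro m
  induction m using Nat.strong_induction_on with
  | _ m IH =>
    intro w hw hm
    by_cases hone : ∀ i : Fin T.rank, T.half ≤ (w (T.simpF hT i)).val
    · have := eq_one_of_pos hT hw hone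
      subst this
      exact ⟨fun r h j _ => le_rfl, fun _ => one_mem _⟩
    push Not at hone
    obtain ⟨i, hi⟩ := hone
    have h1 := invN_mul_refP_neg hT hw i hi
    set v := w * T.refP hT i with hv
    have hvW : v ∈ T.WP hT := mul_mem hw (Subgroup.subset_closure ⟨i, rfl⟩)
    have hwv : w = v * T.refP hT i := by rw [hv, mul_assoc, refP_mul_self, mul_one]
    obtain ⟨IHle, IHeq⟩ := IH (T.invN v) (by omega) v hvW rfl
    have hvi : T.half ≤ (v (T.simpF hT i)).val := by
      rw [hv, Equiv.Perm.mul_apply, refP_simpF, WP_negF hT hw]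
      exact le_negF hi
    have hstep : ∀ r (h : r ∈ L), ∀ j < T.rank,
        T.co (w ⟨r, (hL r h).1⟩).val j =
          T.co (v ⟨r, (hL r h).1⟩).val j - T.ca i.val r * T.co (v (T.simpF hT i)).val j := by
      intro r h j hj
      rw [hwv, Equiv.Perm.mul_apply, WP_linear hT hvW _ hj, WP_linear hT hvW ⟨r, (hL r h).1⟩ hj]
      have hco : ∀ k : Fin T.rank, T.co (T.refP hT i ⟨r, (hL r h).1⟩).val k =
          T.co r k - if k = i then T.ca i.val r else 0 := fun k => by
        rw [refP_apply, co_refl hT i.2 (hL r h).1 k.2]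
        simp only [Fin.ext_iff]
      simp only [hco, sub_mul, Finset.sum_sub_distrib, ite_mul, zero_mul, Finset.sum_ite_eq',
        Finset.mem_univ, if_true]
    have hnn : ∀ r (h : r ∈ L), ∀ j < T.rank,
        0 ≤ T.ca i.val r * T.co (v (T.simpF hT i)).val j := fun r h j hj =>
      mul_nonneg ((hL r h).2 i.val i.2) (co_nonneg' hT hvi hj)
    refine ⟨fun r h j hj => ?_, fun heq => ?_⟩
    · have := IHle r h j hj
      have := hnn r h j hj
      rw [hstep r h j hj]
      omega
    · have hv0 : v ∈ WJ T hT (orthSimple T L) := IHeq fun r h j hj => by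
        have h1 := IHle r h j hj
        have h2 := hnn r h j hj
        have h3 := heq r h j hj
        rw [hstep r h j hj] at h3
        omega
      have hio : i.val ∈ orthSimple T L := by
        refine Finset.mem_filter.mpr ⟨Finset.mem_range.mpr i.2, fun r h => ?_⟩
        by_contra hne
        obtain ⟨j, hj⟩ : ∃ j : Fin T.rank, 0 < T.co (v (T.simpF hT i)).val j := by
          by_contra hno
          push Not at hno
          exact absurd hvi (not_le.mpr (lt_half_of_co_nonpos hT (Fin.isLt _) fun j hj => hno ⟨j, hj⟩))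
        have h1 := IHle r h j j.2
        have h3 := heq r h j j.2
        rw [hstep r h j j.2] at h3
        have h4 : 0 < T.ca i.val r * T.co (v (T.simpF hT i)).val j :=
          mul_pos (lt_of_le_of_ne ((hL r h).2 i.val i.2) (Ne.symm hne)) hj
        omega
      rw [hwv]
      exact mul_mem hv0 (refP_mem_wJ hT hio)

variable {F : Type*} [Field F] (hC : T.chkComm = true)
include hC

theorem xU_ne {a b : ℕ} (ha : T.half ≤ a) (han : a < T.n) (hab : a < b) (hbn : b < T.n) {c d c' : F}
    (hc : c ≠ c') : T.xU F a c ≠ T.xU F a c' * T.xU F b d := by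
  intro h
  have := xU_mul_inj hT hC ha han (g := 1) (g' := T.xU F b d) (one_mem _)
    (xU_mem_rootGen (P := fun s => a + 1 ≤ s) hbn hab d) (t := c) (t' := c') (by rw [mul_one]; exact h)
  exact hc this.1

theorem eq_of_xU_eq {a b : ℕ} (ha : T.half ≤ a) (han : a < T.n) (hb : T.half ≤ b) (hbn : b < T.n)
    {c d : F} (hc : c ≠ 0) (hd : d ≠ 0) (h : T.xU F a c = T.xU F b d) : a = b ∧ c = d := by
  rcases lt_trichotomy a b with hlt | heq | hgt
  · exact absurd (by rw [xU_zero hT han, one_mul]; exact h) (xU_ne hT hC ha han hlt hbn (d := d) hc)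
  · subst heq; exact ⟨rfl, xU_inj hT han h⟩
  · exact absurd (by rw [xU_zero hT hbn, one_mul]; exact h.symm)
      (xU_ne hT hC hb hbn hgt han (d := c) hd)

theorem eq_of_xU_pair_eq {a b a' b' : ℕ} (ha : T.half ≤ a) (hab : a < b) (hbn : b < T.n)
    (ha' : T.half ≤ a') (hab' : a' < b') (hbn' : b' < T.n) {c d c' d' : F} (hc : c ≠ 0)
    (hd : d ≠ 0) (hc' : c' ≠ 0) (hd' : d' ≠ 0)
    (h : T.xU F a c * T.xU F b d = T.xU F a' c' * T.xU F b' d') :
    (a = a' ∧ b = b') ∧ c = c' ∧ d = d' := by
  have hge : ∀ {k : ℕ}, k < a' → T.xU F a' c' * T.xU F b' d' ∈ T.rootGen F (fun s => k + 1 ≤ s) :=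
    fun hk => mul_mem (xU_mem_rootGen (P := fun s => _ + 1 ≤ s) (by omega) hk c')
      (xU_mem_rootGen (P := fun s => _ + 1 ≤ s) hbn' (by omega) d')
  have hge' : ∀ {k : ℕ}, k < a → T.xU F a c * T.xU F b d ∈ T.rootGen F (fun s => k + 1 ≤ s) :=
    fun hk => mul_mem (xU_mem_rootGen (P := fun s => _ + 1 ≤ s) (by omega) hk c)
      (xU_mem_rootGen (P := fun s => _ + 1 ≤ s) hbn (by omega) d)
  rcases lt_trichotomy a a' with hlt | heq | hgt
  · exfalso
    have := xU_mul_inj hT hC ha (by omega) (t := c) (t' := 0)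
      (xU_mem_rootGen (P := fun s => a + 1 ≤ s) hbn hab d) (hge hlt)
      (by rw [xU_zero hT (by omega : a < T.n), one_mul]; exact h)
    exact hc this.1
  · subst heq
    obtain ⟨h1, h2⟩ := xU_mul_inj hT hC ha (by omega) (xU_mem_rootGen (P := fun s => a + 1 ≤ s) hbn hab d)
      (xU_mem_rootGen (P := fun s => a + 1 ≤ s) hbn' hab' d') h
    obtain ⟨h3, h4⟩ := eq_of_xU_eq hT hC (by omega) hbn (by omega) hbn' hd hd' h2
    exact ⟨⟨rfl, h3⟩, h1, h4⟩
  · exfalso
    have := xU_mul_inj hT hC ha' (by omega) (t := c') (t' := 0)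
      (xU_mem_rootGen (P := fun s => a' + 1 ≤ s) hbn' hab' d') (hge' hgt)
      (by rw [xU_zero hT (by omega : a' < T.n), one_mul]; exact h.symm)
    exact hc' this.1

end CfsgLib.KnownB.RootCentralizer
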